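import Cfsg.Agent.Lib.AutPSU.Main
import Cfsg.Agent.Lib.AutPSL.Count

/-!
# The order of `Aut PSU_n(q)`

* `gal_eq_one_of_twistAut`
* `card_mulAut`
-/

set_option autoImplicit false

namespace Cfsg.Agent.AutPSU

open scoped Matrix MatrixGroups
open Cfsg.Agent.Unitary
open Cfsg.Agent.FieldAut (suMat suMat_injective conj_mem_suMat keep_gal_su galGL indAut conjAut
  conjAut_apply conjAut_eq_one_iff suRigid scal scal_coe scal_mem_GU mem_GU_iff_matrix)

variable {F : Type*} [Field F] [Fintype F] {q n : ℕ}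

theorem gal_eq_one_of_twistAut (hF : Fintype.card F = q ^ 2) (hn : 3 ≤ n) {X : GL (Fin n) F}
    (hX : X ∈ Cfsg.GU n F q) {σ : F ≃+* F} (h : twistAut hX σ = 1) : σ = 1 := by
  classical
  obtain ⟨d, rfl⟩ : ∃ d, n = 2 + d := ⟨n - 2, by omega⟩
  obtain ⟨Fr⟩ := exists_uframe (d := d) hF
  have H := hermForm_isHerm hF (2 + d)
  have hline : ∀ v : Fin (2 + d) → F, v ≠ 0 → Cfsg.hermForm (2 + d) F q v v = 0 →
      ∃ c : F, c • v = twistVec X σ v := by
    intro v hv hv0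
    have h1 := piMap_twistAut hF hn hX σ hv hv0
    rw [h, piMap_one, eq_comm, IsoLine.mk_eq_iff] at h1
    exact h1
  obtain ⟨a, ha⟩ := hline _ (Fr.e_ne_zero hF) Fr.ee
  obtain ⟨b, hb⟩ := hline _ (Fr.f_ne_zero hF) Fr.ff
  have hb0 : b ≠ 0 := fun h0 => twistVec_ne_zero (M := X) σ (Fr.f_ne_zero hF)
    (by rw [← hb, h0, zero_smul])
  have ha0 : a ≠ 0 := fun h0 => twistVec_ne_zero (M := X) σ (Fr.e_ne_zero hF)
    (by rw [← ha, h0, zero_smul])
  have hw : ∀ w : Fin d → F, twistVec X σ (Fr.emb w) = b • Fr.emb w := by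
    intro w
    obtain ⟨g, hg, hgw⟩ := Fr.exists_q_wc hF w
    have hv : suAct g Fr.f ≠ 0 := suAct_ne_zero g (Fr.f_ne_zero hF)
    obtain ⟨c, hc⟩ := hline _ hv ((suAct_herm g _ _).trans Fr.ff)
    rw [Fr.act_f hF hg, hgw, twistVec_add, twistVec_add, twistVec_smul, ← ha, ← hb] at hc
    set u := twistVec X σ (Fr.emb w) with hu
    have he : Cfsg.hermForm (2 + d) F q u Fr.e = 0 := by
      have h1 := twistVec_herm hX σ (Fr.emb w) Fr.e
      rw [Fr.emb_e hF, map_zero, ← ha, H.smul_right, ← hu] at h1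
      exact (mul_eq_zero.1 h1).resolve_left (pow_ne_zero _ ha0)
    have h1 := congrArg (fun z => Cfsg.hermForm (2 + d) F q z Fr.e) hc
    simp only [H.add_left, H.smul_left, Fr.ee, Fr.fe hF, Fr.emb_e hF, he] at h1
    have hcb : c = b := by linear_combination h1
    subst hcb
    have hwu : Fr.wco u = c • w := funext fun i => by
      have h2 := congrArg (fun z => Cfsg.hermForm (2 + d) F q z (Fr.b i)) hc
      have h3 : Cfsg.hermForm (2 + d) F q (Fr.emb w) (Fr.b i) = w i :=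
        congrFun (Fr.wco_emb hF w) i
      simp only [H.add_left, H.smul_left, Fr.eb hF, Fr.fb hF, h3] at h2
      show Cfsg.hermForm (2 + d) F q u (Fr.b i) = c * w i
      linear_combination -h2
    have hf : Cfsg.hermForm (2 + d) F q u Fr.f = 0 := by
      have h1 := twistVec_herm hX σ (Fr.emb w) Fr.f
      rw [Fr.emb_f hF, map_zero, ← hb, H.smul_right, ← hu] at h1
      exact (mul_eq_zero.1 h1).resolve_left (pow_ne_zero _ hb0)
    rw [Fr.decomp hF u, he, hf, hwu, zero_smul, zero_smul, zero_add, zero_add, Fr.emb_smul]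
  refine RingEquiv.ext fun t => ?_
  let i₀ : Fin d := ⟨0, by omega⟩
  have h1 := hw (t • Pi.single i₀ 1)
  rw [Fr.emb_smul, twistVec_smul, hw, smul_smul, smul_smul, mul_comm b t] at h1
  have hne : Fr.emb (Pi.single i₀ (1 : F)) ≠ 0 := fun h0 => by
    have := congrArg Fr.wco h0
    rw [Fr.wco_emb hF] at this
    simpa [UFrame.wco, H.zero_left] using congrFun this i₀
  exact mul_right_cancel₀ hb0 (smul_left_injective F hne h1)

theorem card_mulAut (hF : Fintype.card F = q ^ 2) (hn : 3 ≤ n) (hs : ¬(n = 3 ∧ q = 2)) :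
    Nat.card (MulAut (Cfsg.PSU n F q))
      = Nat.gcd n (q + 1) * Nat.card (Cfsg.PSU n F q) * Nat.card (F ≃+* F) := by
  classical
  have : Nonempty (Fin n) := ⟨⟨0, by omega⟩⟩
  have hr := suRigid (n := n) hF (by omega)
  set C := conjAut suMat_injective (Cfsg.GU n F q) (fun _ => conj_mem_suMat) with hC
  have htw : ∀ (g : Cfsg.GU n F q) (σ : F ≃+* F),
      twistAut g.2 σ = C g * indAut suMat_injective ⟨galGL σ, keep_gal_su σ⟩ :=
    fun g σ => twistAut_eq_mul g.2 σ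
  let G : (F ≃+* F) →* MulAut (Cfsg.PSU n F q) :=
    (indAut suMat_injective).comp (galGL.codRestrict _ keep_gal_su)
  let Φ : C.range × (F ≃+* F) → MulAut (Cfsg.PSU n F q) := fun x => x.1.1 * G x.2
  have hbij : Function.Bijective Φ := by
    constructor
    · rintro ⟨⟨y₁, g₁, rfl⟩, σ₁⟩ ⟨⟨y₂, g₂, rfl⟩, σ₂⟩ he
      have he' : C g₁ * G σ₁ = C g₂ * G σ₂ := he
      have h1 : (C g₂)⁻¹ * C g₁ * G (σ₁ * σ₂⁻¹) = 1 := by
        rw [map_mul, map_inv, show (C g₂)⁻¹ * C g₁ * (G σ₁ * (G σ₂)⁻¹)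
          = (C g₂)⁻¹ * (C g₁ * G σ₁) * (G σ₂)⁻¹ by group, he']
        group
      have h2 : σ₁ * σ₂⁻¹ = 1 := gal_eq_one_of_twistAut hF hn (g₂⁻¹ * g₁).2
        ((htw (g₂⁻¹ * g₁) _).trans (by rw [map_mul, map_inv]; exact h1))
      have h3 : σ₁ = σ₂ := mul_inv_eq_one.1 h2
      subst h3
      exact Prod.ext (Subtype.ext (mul_right_cancel he')) rfl
    · intro α
      obtain ⟨X, hX, σ, rfl⟩ := exists_factor hF hn hs α
      exact ⟨⟨⟨_, ⟨X, hX⟩, rfl⟩, σ⟩, (htw ⟨X, hX⟩ σ).symm⟩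
  rw [← Nat.card_congr (Equiv.ofBijective Φ hbij), Nat.card_prod]
  congr 1
  have hker : ∀ g : Cfsg.GU n F q, g ∈ C.ker ↔ g.1 ∈ Cfsg.Geo.scalars (Fin n) F := fun g => by
    rw [MonoidHom.mem_ker]
    exact conjAut_eq_one_iff hr _
  have hcardker : Nat.card C.ker = q + 1 := by
    let μ : Subgroup Fˣ := (powMonoidHom (q + 1) : Fˣ →* Fˣ).ker
    have hμ : Nat.card μ = q + 1 := by
      rw [IsCyclic.card_powMonoidHom_ker, card_units hF, Nat.gcd_eq_right (q_succ_dvd q)]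
    rw [← hμ]
    symm
    refine Nat.card_congr (Equiv.ofBijective (fun a => (⟨⟨scal a.1, scal_mem_GU hF _
      (MonoidHom.mem_ker.1 a.2)⟩, (hker _).2 ⟨a.1, rfl⟩⟩ : C.ker)) ⟨fun a b h => ?_, ?_⟩)
    · have h1 := congrArg (fun x : C.ker => (x.1.1.1 : Matrix (Fin n) (Fin n) F) ⟨0, by omega⟩ ⟨0, by omega⟩) h
      simp only [scal_coe, Matrix.smul_apply, Matrix.one_apply_eq, smul_eq_mul, mul_one] at h1
      exact Subtype.ext (Units.ext h1)
    · rintro ⟨⟨g, hg⟩, hk⟩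
      obtain ⟨a, rfl⟩ := (hker _).1 hk
      refine ⟨⟨a, MonoidHom.mem_ker.2 (Units.ext ?_)⟩, rfl⟩
      have h1 := (mem_GU_iff _).1 hg (Pi.single ⟨0, by omega⟩ 1) (Pi.single ⟨0, by omega⟩ 1)
      have hs' : ∀ x : Fin n → F, (scal a : GL (Fin n) F).1 *ᵥ x = (a : F) • x := fun x => by
        rw [scal_coe, Matrix.smul_mulVec, Matrix.one_mulVec]
      rw [show (Units.map (Matrix.scalar (Fin n)).toMonoidHom a : GL (Fin n) F) = scal a from rfl,
        hs', (hermForm_isHerm hF n).smul_left, (hermForm_isHerm hF n).smul_right,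
        (single_orthonormal hF n).apply, if_pos rfl, mul_one, ← pow_succ'] at h1
      simpa using h1
  have h1 := Subgroup.index_ker C
  have h2 := Subgroup.card_mul_index C.ker
  rw [hcardker, h1, card_GU_eq_succ_mul_card_SU hF (by omega)] at h2
  rw [Nat.eq_of_mul_eq_mul_left (by omega) h2,
    Subgroup.card_eq_card_quotient_mul_card_subgroup (Subgroup.center (Cfsg.SU n F q)),
    card_center_SU hF (by omega), mul_comm]

end Cfsg.Agent.AutPSU
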