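import Cfsg.Agent.Lib.AutPSU.Frame

/-!
# The commutant of the Levi action on the radical

* `mem_subfield_of_orderOf`
* `UFrame.exists_diag_ne_one`
* `UFrame.lev_commutant` : additive maps commuting with the Levi action are scalars
-/

set_option autoImplicit false

namespace Cfsg.Agent.AutPSU

open scoped Matrix
open Cfsg.Agent.Unitary

variable {F : Type*} [Field F] [Fintype F] {q d : ℕ}

theorem mem_subfield_of_orderOf (hF : Fintype.card F = q ^ 2) (K : Subfield F) {a : F}
    (ha : a ∈ K) (ha0 : a ≠ 0) (hord : q ≤ orderOf a) (x : F) : x ∈ K := by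
  classical
  have hK : q < Fintype.card K := by
    have h1 : orderOf (Units.mk0 (⟨a, ha⟩ : K) (fun h => ha0 (congrArg Subtype.val h))) = orderOf a := by
      rw [← orderOf_units, Units.val_mk0, ← orderOf_injective K.subtype.toMonoidHom K.subtype.injective]
      rfl
    have h2 := orderOf_le_card_univ
      (x := Units.mk0 (⟨a, ha⟩ : K) (fun h => ha0 (congrArg Subtype.val h)))
    rw [h1, Fintype.card_units] at h2
    have := two_le_q hF
    omega
  have hc : Fintype.card F = Fintype.card K ^ Module.finrank K F := Module.card_eq_pow_finrank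
  have h1 : Module.finrank K F ≤ 1 := by
    by_contra hlt
    have h2 : Fintype.card K ^ 2 ≤ Fintype.card F :=
      hc ▸ Nat.pow_le_pow_right (by omega) (by omega)
    rw [hF] at h2
    have := Nat.pow_le_pow_left (show q + 1 ≤ Fintype.card K by omega) 2
    nlinarith
  have hle : Fintype.card F ≤ Fintype.card K := by
    rw [hc]
    exact le_of_le_of_eq (Nat.pow_le_pow_right (by omega) h1) (pow_one _)
  obtain ⟨y, hy⟩ := ((Fintype.bijective_iff_injective_and_card (Subtype.val : K → F)).2
    ⟨Subtype.val_injective, le_antisymm (Fintype.card_subtype_le _) hle⟩).2 x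
  exact hy ▸ y.2

theorem norm_one_ne_zero (hF : Fintype.card F = q ^ 2) {ζ : F} (hζ : ζ ^ (q + 1) = 1) : ζ ≠ 0 := by
  rintro rfl
  simp at hζ

theorem pow_q_eq_inv (hF : Fintype.card F = q ^ 2) {ζ : F} (hζ : ζ ^ (q + 1) = 1) : ζ ^ q = ζ⁻¹ :=
  eq_inv_of_mul_eq_one_left (by rw [← pow_succ, hζ])

theorem quot_norm_one (hF : Fintype.card F = q ^ 2) {l : F} (hl : l ≠ 0) :
    (l ^ q / l) ^ (q + 1) = 1 := by
  rw [div_pow, pow_succ (l ^ q), pow_q_pow_q hF, pow_succ l]
  field_simp

theorem exists_gen (hF : Fintype.card F = q ^ 2) :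
    ∃ l : F, l ≠ 0 ∧ orderOf l = q ^ 2 - 1 := by
  classical
  obtain ⟨g, hg⟩ := IsCyclic.exists_generator (α := Fˣ)
  refine ⟨g, g.ne_zero, ?_⟩
  rw [orderOf_units, orderOf_eq_card_of_forall_mem_zpowers hg, card_units hF]

namespace UFrame

variable (Fr : UFrame d F q) (hF : Fintype.card F = q ^ 2)
include hF

/-- A diagonal operator with two prescribed multipliers. -/
theorem exists_op_pair {i j : Fin d} (hij : i ≠ j) {l ζ : F} (hl : l ≠ 0)
    (hζ : ζ ^ (q + 1) = 1) :
    ∃ (g : Cfsg.SU (2 + d) F q) (μ : Fin d → F), Fr.IsLev g l (Matrix.diagonal μ) ∧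
      μ j = ζ ∧ μ i = l ^ q / l * ζ⁻¹ := by
  classical
  let μ : Fin d → F := Pi.mulSingle j ζ * Pi.mulSingle i (l ^ q / l * ζ⁻¹)
  have hζ0 := norm_one_ne_zero hF hζ
  obtain ⟨g, hg⟩ := Fr.exists_lev_diag hF hl μ (fun k => by
    rcases eq_or_ne k j with rfl | hkj
    · simp [μ, hij.symm, hζ]
    · rcases eq_or_ne k i with rfl | hki
      · simp [μ, hij, mul_pow, quot_norm_one hF hl, inv_pow_succ ζ hζ]
      · simp [μ, hkj, hki]) (by
    simp only [μ, Pi.mul_apply, Finset.prod_mul_distrib, Finset.prod_pi_mulSingle',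
      Finset.mem_univ, if_true]
    field_simp)
  exact ⟨g, μ, hg, by simp [μ, hij.symm], by simp [μ, hij]⟩

/-- An operator of norm one multiplier moving a given coordinate. -/
theorem exists_diag_ne_one (hs : ¬(d = 1 ∧ q = 2)) (i : Fin d) :
    ∃ (g : Cfsg.SU (2 + d) F q) (l : F) (μ : Fin d → F), Fr.IsLev g l (Matrix.diagonal μ) ∧
      l ^ (q + 1) = 1 ∧ l ^ q * μ i ≠ 1 := by
  classical
  obtain ⟨ζ, hζ, hord⟩ := exists_norm_one_gen hF
  have hζ0 := norm_one_ne_zero hF hζ
  have h2 := two_le_q hF
  by_cases hj : ∃ j, j ≠ i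
  · obtain ⟨j, hj⟩ := hj
    obtain ⟨g, μ, hg, -, hμi⟩ := Fr.exists_op_pair hF hj.symm one_ne_zero hζ
    refine ⟨g, 1, μ, hg, one_pow _, ?_⟩
    rw [one_pow, one_mul, hμi, one_pow, div_one, one_mul]
    intro h
    rw [inv_eq_one] at h
    rw [h, orderOf_one] at hord
    omega
  · simp only [not_exists, not_not] at hj
    have hd1 : d = 1 := by
      have : Subsingleton (Fin d) := ⟨fun a b => (hj a).trans (hj b).symm⟩
      have := Fintype.card_le_one_iff_subsingleton.2 this
      rw [Fintype.card_fin] at this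
      have := i.isLt
      omega
    have hq : 3 ≤ q := by
      rcases Nat.lt_or_ge q 3 with h | h
      · exact absurd ⟨hd1, by omega⟩ hs
      · exact h
    obtain ⟨g, hg⟩ := Fr.exists_lev_diag hF hζ0 (fun _ => ζ ^ q / ζ)
      (fun _ => quot_norm_one hF hζ0) (by
      rw [Finset.prod_const, Finset.card_univ, Fintype.card_fin, hd1, pow_one]
      field_simp)
    refine ⟨g, ζ, _, hg, hζ, fun h => ?_⟩
    rw [pow_q_eq_inv hF hζ] at h
    have h3 : ζ ^ 3 = 1 := by
      have : ζ ^ 3 * (ζ⁻¹ * (ζ⁻¹ / ζ)) = 1 := by field_simp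
      rwa [h, mul_one] at this
    have := Nat.le_of_dvd (by norm_num) (hord ▸ orderOf_dvd_of_pow_eq_one h3)
    omega

/-- Additive maps commuting with the Levi action are scalars. -/
theorem lev_commutant (hd : 1 ≤ d) (hs : ¬(d = 1 ∧ q = 2))
    (Z : (Fin d → F) →+ (Fin d → F))
    (hZ : ∀ g l G, Fr.IsLev g l G → ∀ w, Z (l ^ q • G *ᵥ w) = l ^ q • G *ᵥ Z w) :
    ∃ z : F, ∀ w, Z w = z • w := by
  classical
  obtain ⟨ζ, hζ, hord⟩ := exists_norm_one_gen hF
  have h2 := two_le_q hF
  have hζ0 := norm_one_ne_zero hF hζ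
  have rel : ∀ g l μ, Fr.IsLev g l (Matrix.diagonal μ) → ∀ (i j : Fin d) (x : F),
      Z (Pi.single j (l ^ q * μ j * x)) i = l ^ q * μ i * Z (Pi.single j x) i := by
    intro g l μ hg i j x
    have h1 := congrFun (hZ g l _ hg (Pi.single j x)) i
    rw [Matrix.diagonal_mulVec_single, ← Pi.single_smul', Pi.smul_apply, Matrix.mulVec_diagonal,
      smul_eq_mul, smul_eq_mul, ← mul_assoc] at h1
    rw [h1, mul_assoc]
  have hadd : ∀ (i j : Fin d) (x y : F),
      Z (Pi.single j (x + y)) i = Z (Pi.single j x) i + Z (Pi.single j y) i := fun i j x y => by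
    rw [Pi.single_add, map_add, Pi.add_apply]
  have hzero : ∀ i j : Fin d, Z (Pi.single j 0) i = 0 := fun i j => by simp
  have hneg : ∀ (i j : Fin d) (x : F), Z (Pi.single j (-x)) i = -Z (Pi.single j x) i := fun i j x => by
    rw [Pi.single_neg, map_neg, Pi.neg_apply]
  have hoff : ∀ i j, i ≠ j → ∀ x, Z (Pi.single j x) i = 0 := by
    intro i j hij
    let U : Subfield F :=
      { carrier := {a | ∀ x, Z (Pi.single j (a * x)) i = a ^ q * Z (Pi.single j x) i}
        one_mem' := fun x => by simp
        mul_mem' := fun {a b} ha hb x => by rw [mul_assoc, ha, hb, mul_pow, mul_assoc]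
        add_mem' := fun {a b} ha hb x => by rw [add_mul, hadd, ha, hb, add_pow_q hF, add_mul]
        zero_mem' := fun x => by rw [zero_mul, hzero, zero_pow_q hF, zero_mul]
        neg_mem' := fun {a} ha x => by rw [neg_mul, hneg, ha, neg_pow_q hF, neg_mul]
        inv_mem' := fun a ha x => by
          rcases eq_or_ne a 0 with rfl | ha0
          · simp [hzero, zero_pow (show q ≠ 0 by omega)]
          · have := ha (a⁻¹ * x)
            rw [← mul_assoc, mul_inv_cancel₀ ha0, one_mul] at this
            rw [this, inv_pow, inv_mul_cancel_left₀ (pow_ne_zero _ ha0)] }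
    have hζU : ζ ∈ U := fun x => by
      obtain ⟨g, μ, hg, hμj, hμi⟩ := Fr.exists_op_pair hF hij one_ne_zero hζ
      have := rel g 1 μ hg i j x
      rw [one_pow, one_mul, one_mul, hμj, hμi, one_pow, div_one, one_mul] at this
      rw [this, pow_q_eq_inv hF hζ]
    have hU := mem_subfield_of_orderOf hF U hζU hζ0 (by omega)
    intro x
    by_contra hne
    obtain ⟨l, hl, hlo⟩ := exists_gen (q := q) hF
    obtain ⟨g, μ, hg, hμj, hμi⟩ := Fr.exists_op_pair hF hij hl (one_pow (q + 1))
    have h1 := rel g l μ hg i j x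
    rw [hμj, hμi, inv_one, mul_one, mul_one, hU (l ^ q) x, pow_q_pow_q hF] at h1
    have h3 := mul_right_cancel₀ hne h1
    have h4 : l ^ q * l ^ q = l * l := by
      field_simp at h3
      linear_combination -h3
    have h5 : (l ^ q / l) ^ 2 = 1 := by
      rw [div_pow, sq, h4, sq, div_self (mul_ne_zero hl hl)]
    have h6 : l ^ ((q - 1) * 2) = 1 := by
      rw [pow_mul, ← h5]
      congr 1
      rw [eq_div_iff hl, ← pow_succ, Nat.sub_add_cancel (by omega)]
    have h7 := Nat.le_of_dvd (Nat.mul_pos (by omega) two_pos)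
      (hlo ▸ orderOf_dvd_of_pow_eq_one h6)
    have : 2 * q ≤ q ^ 2 := by nlinarith
    omega
  have hdiag : ∀ i x, Z (Pi.single i x) i = Z (Pi.single i 1) i * x := by
    intro i
    let U : Subfield F :=
      { carrier := {a | ∀ x, Z (Pi.single i (a * x)) i = a * Z (Pi.single i x) i}
        one_mem' := fun x => by simp
        mul_mem' := fun {a b} ha hb x => by rw [mul_assoc, ha, hb, mul_assoc]
        add_mem' := fun {a b} ha hb x => by rw [add_mul, hadd, ha, hb, add_mul]
        zero_mem' := fun x => by rw [zero_mul, hzero, zero_mul]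
        neg_mem' := fun {a} ha x => by rw [neg_mul, hneg, ha, neg_mul]
        inv_mem' := fun a ha x => by
          rcases eq_or_ne a 0 with rfl | ha0
          · simp [hzero]
          · have := ha (a⁻¹ * x)
            rw [← mul_assoc, mul_inv_cancel₀ ha0, one_mul] at this
            rw [this, inv_mul_cancel_left₀ ha0] }
    have hU : ∀ a, a ∈ U := by
      by_cases hj : ∃ j, j ≠ i
      · obtain ⟨j, hj⟩ := hj
        refine mem_subfield_of_orderOf hF U (a := ζ) (fun x => ?_) hζ0 (by omega)
        obtain ⟨g, μ, hg, hμj, -⟩ := Fr.exists_op_pair hF hj one_ne_zero hζ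
        have := rel g 1 μ hg i i x
        rwa [one_pow, one_mul, hμj] at this
      · simp only [not_exists, not_not] at hj
        have hd1 : d = 1 := by
          have : Subsingleton (Fin d) := ⟨fun a b => (hj a).trans (hj b).symm⟩
          have := Fintype.card_le_one_iff_subsingleton.2 this
          rw [Fintype.card_fin] at this
          omega
        have hq : 3 ≤ q := by
          rcases Nat.lt_or_ge q 3 with h | h
          · exact absurd ⟨hd1, by omega⟩ hs
          · exact h
        obtain ⟨l, hl, hlo⟩ := exists_gen (q := q) hF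
        refine mem_subfield_of_orderOf hF U (a := l ^ q * (l ^ q / l)) (fun x => ?_)
          (mul_ne_zero (pow_ne_zero _ hl) (div_ne_zero (pow_ne_zero _ hl) hl)) ?_
        · obtain ⟨g, hg⟩ := Fr.exists_lev_diag hF hl (fun _ => l ^ q / l)
            (fun _ => quot_norm_one hF hl) (by
            rw [Finset.prod_const, Finset.card_univ, Fintype.card_fin, hd1, pow_one]
            field_simp)
          exact rel g l _ hg i i x
        · by_contra hlt
          set a := l ^ q * (l ^ q / l) with ha
          have hr : 0 < orderOf a := by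
            rw [← Units.val_mk0 (show a ≠ 0 from
              mul_ne_zero (pow_ne_zero _ hl) (div_ne_zero (pow_ne_zero _ hl) hl)), orderOf_units]
            exact orderOf_pos _
          have ha2 : a = l ^ (2 * q - 1) := by
            rw [ha, ← mul_div_assoc, eq_comm, eq_div_iff hl, ← pow_succ, ← pow_add]
            congr 1
            omega
          have h5 : q ^ 2 - 1 ∣ (2 * q - 1) * orderOf a := hlo ▸ orderOf_dvd_of_pow_eq_one (by
            rw [pow_mul, ← ha2, pow_orderOf_eq_one])
          have h6 : q ^ 2 - 1 ∣ (4 * (q ^ 2 - 1)) * orderOf a + 3 * orderOf a := by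
            have e : (4 * (q ^ 2 - 1)) * orderOf a + 3 * orderOf a
                = ((2 * q - 1) * orderOf a) * (2 * q + 1) := by
              have : 1 ≤ q ^ 2 := Nat.one_le_pow _ _ (by omega)
              zify [this, show 1 ≤ 2 * q by omega]
              ring
            rw [e]
            exact Dvd.dvd.mul_right h5 _
          have h7 := Nat.le_of_dvd (by omega) ((Nat.dvd_add_right
            (Dvd.dvd.mul_right (Dvd.intro_left 4 rfl) _)).1 h6)
          have : 3 * q ≤ q ^ 2 := by nlinarith
          omega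
    intro x
    have := hU x 1
    rw [mul_one] at this
    rw [this, mul_comm]
  have hcol : ∀ i x, Z (Pi.single i x) = (Z (Pi.single i 1) i) • Pi.single i x := by
    intro i x
    funext k
    rcases eq_or_ne k i with rfl | hk
    · rw [hdiag, Pi.smul_apply, Pi.single_eq_same, smul_eq_mul]
    · rw [hoff k i hk, Pi.smul_apply, Pi.single_eq_of_ne hk, smul_zero]
  let i₀ : Fin d := ⟨0, hd⟩
  have hsame : ∀ i, Z (Pi.single i 1) i = Z (Pi.single i₀ 1) i₀ := by
    intro i
    rcases eq_or_ne i i₀ with rfl | hi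
    · rfl
    · obtain ⟨g, G, hg, hG, -⟩ := Fr.exists_lev_swap hF hi.symm
      have h1 := hZ g 1 G hg (Pi.single i₀ 1)
      rw [one_pow, one_smul, one_smul, hG, hcol i₀ 1, Matrix.mulVec_smul, hG] at h1
      rw [h1]
      simp
  refine ⟨Z (Pi.single i₀ 1) i₀, fun w => ?_⟩
  conv_lhs => rw [← Finset.univ_sum_single w, map_sum]
  conv_rhs => rw [← Finset.univ_sum_single w, Finset.smul_sum]
  exact Finset.sum_congr rfl fun i _ => by rw [hcol, hsame]

end UFrame

end Cfsg.Agent.AutPSU
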