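import Cfsg.Agent.Lib.AutPSU.Commutant

/-!
# The map induced on the radical coordinates

For an automorphism `α` fixing the two frame points:
* `UFrame.exists_lift`, `UFrame.exists_coord` : the additive map `A` of coordinates
* `UFrame.coord_semilinear`, `UFrame.coord_herm` : `A` is a semilinear similitude
* `UFrame.fix_radical`, `UFrame.eq_one_of_coord` : trivial coordinates mean `α = 1`
-/

set_option autoImplicit false

namespace Cfsg.Agent.AutPSU

open scoped Matrix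
open Cfsg.Agent.Unitary

variable {F : Type*} [Field F] [Fintype F] {q d : ℕ}

local notation "hm" => Cfsg.hermForm (2 + d) F q
local notation "hW" => Cfsg.hermForm d F q
local notation "cc" => cl (2 + d) F q

theorem exists_sub_conj (hF : Fintype.card F = q ^ 2) {a : F} (ha : a + a ^ q = 0) :
    ∃ c : F, c - c ^ q = a := by
  obtain ⟨θ, hθ⟩ := exists_trace_eq hF (c := (1 : F)) (one_pow _)
  refine ⟨θ * a, ?_⟩
  rw [mul_pow]
  linear_combination a * hθ - θ ^ q * ha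

theorem exists_nonfixed (hF : Fintype.card F = q ^ 2) : ∃ t : F, t - t ^ q ≠ 0 := by
  obtain ⟨δ, hδ0, hδ⟩ := exists_skew hF
  obtain ⟨t, ht⟩ := exists_sub_conj hF (a := δ) (by rw [hδ, add_neg_cancel])
  exact ⟨t, ht ▸ hδ0⟩

namespace UFrame

variable (Fr : UFrame d F q) (hF : Fintype.card F = q ^ 2)
include hF

local notation "Qg" => qGroup (q := q) Fr.e

theorem cl_inj {g h : Cfsg.SU (2 + d) F q} (hg : g ∈ Qg) (hh : h ∈ Qg) (he : cc g = cc h) :
    g = h := by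
  refine inv_mul_eq_one.1 (center_fix_eq_one hF (by omega) (QuotientGroup.eq.1 he)
    (Fr.e_ne_zero hF) ?_)
  exact (mul_mem (inv_mem hg) hh).1

theorem wc_one : Fr.wc (1 : Cfsg.SU (2 + d) F q) = 0 := by
  have h := (Fr.ec_wc_mul hF (one_mem Qg) (one_mem Qg)).2
  rw [one_mul] at h
  exact left_eq_add.1 h

theorem ec_one : Fr.ec (1 : Cfsg.SU (2 + d) F q) = 0 := by
  rw [ec, suAct_one, Fr.ff]

theorem wc_inv {g : Cfsg.SU (2 + d) F q} (hg : g ∈ Qg) : Fr.wc g⁻¹ = -Fr.wc g := by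
  have h := (Fr.ec_wc_mul hF hg (inv_mem hg)).2
  rw [mul_inv_cancel, Fr.wc_one hF] at h
  exact eq_neg_of_add_eq_zero_right h.symm

theorem ec_inv {g : Cfsg.SU (2 + d) F q} (hg : g ∈ Qg) :
    Fr.ec g⁻¹ = -Fr.ec g + hW (-Fr.wc g) (Fr.wc g) := by
  have h := (Fr.ec_wc_mul hF hg (inv_mem hg)).1
  rw [mul_inv_cancel, Fr.ec_one hF, Fr.wc_inv hF hg] at h
  linear_combination -h

theorem wc_inv_mul {g h : Cfsg.SU (2 + d) F q} (hg : g ∈ Qg) (hh : h ∈ Qg) :
    Fr.wc (g⁻¹ * h) = Fr.wc h - Fr.wc g := by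
  rw [(Fr.ec_wc_mul hF (inv_mem hg) hh).2, Fr.wc_inv hF hg]
  abel

theorem ec_skew {g : Cfsg.SU (2 + d) F q} (hg : g ∈ Qg) (h0 : Fr.wc g = 0) :
    Fr.ec g + Fr.ec g ^ q = 0 := by
  have h := Fr.ec_norm hF hg
  rwa [h0, (hermForm_isHerm hF d).zero_left, add_zero] at h

theorem eq_transv {g : Cfsg.SU (2 + d) F q} (hg : g ∈ Qg) (h0 : Fr.wc g = 0) :
    g = suTransvection hF Fr.e Fr.ee (Fr.ec g) (Fr.ec_skew hF hg h0) := by
  obtain ⟨h1, h2, h3⟩ := Fr.transv_mem hF (Fr.ec g) (Fr.ec_skew hF hg h0)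
  exact Fr.qGroup_ext hF hg h1 (by rw [h0, h2]) h3.symm

theorem mem_rootQ_iff {g : Cfsg.SU (2 + d) F q} (hg : g ∈ Qg) :
    cc g ∈ rootQ hF (Fr.pe hF) ↔ Fr.wc g = 0 := by
  constructor
  · intro h
    obtain ⟨c, hc, he⟩ := (mem_rootQ_mk hF (Fr.e_ne_zero hF) Fr.ee).1 h
    obtain ⟨h1, h2, -⟩ := Fr.transv_mem hF c hc
    rw [Fr.cl_inj hF hg h1 he, h2]
  · intro h0
    exact (mem_rootQ_mk hF (Fr.e_ne_zero hF) Fr.ee).2
      ⟨_, Fr.ec_skew hF hg h0, congrArg _ (Fr.eq_transv hF hg h0)⟩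

theorem commutator_coord {g h : Cfsg.SU (2 + d) F q} (hg : g ∈ Qg) (hh : h ∈ Qg) :
    Fr.wc (g * h * g⁻¹ * h⁻¹) = 0 ∧
      Fr.ec (g * h * g⁻¹ * h⁻¹) = hW (Fr.wc g) (Fr.wc h) - hW (Fr.wc h) (Fr.wc g) := by
  have H := hermForm_isHerm hF d
  obtain ⟨a1, a2⟩ := Fr.ec_wc_mul hF hg hh
  obtain ⟨b1, b2⟩ := Fr.ec_wc_mul hF (mul_mem hg hh) (inv_mem hg)
  obtain ⟨c1, c2⟩ := Fr.ec_wc_mul hF (mul_mem (mul_mem hg hh) (inv_mem hg)) (inv_mem hh)
  constructor
  · rw [c2, b2, a2, Fr.wc_inv hF hg, Fr.wc_inv hF hh]; abel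
  · rw [c1, b1, b2, a1, a2, Fr.wc_inv hF hg, Fr.wc_inv hF hh, Fr.ec_inv hF hg, Fr.ec_inv hF hh]
    simp only [H.neg_left, H.add_right hF, H.neg_right hF]
    ring

variable (hd : 1 ≤ d) (α : MulAut (Cfsg.PSU (2 + d) F q))
  (hα : piMap hF (by omega) α (Fr.pe hF) = Fr.pe hF)
include hd hα

theorem exists_lift {g : Cfsg.SU (2 + d) F q} (hg : g ∈ Qg) :
    ∃ g' ∈ Qg, cc g' = α (cc g) := by
  obtain ⟨g', hg', he⟩ := Fr.map_qbar hF hd α hα ⟨cc g, ⟨g, hg, rfl⟩, rfl⟩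
  exact ⟨g', hg', he⟩

theorem wc_lift_eq_zero {g g' : Cfsg.SU (2 + d) F q} (hg : g ∈ Qg) (hg' : g' ∈ Qg)
    (he : cc g' = α (cc g)) (h0 : Fr.wc g = 0) : Fr.wc g' = 0 := by
  rw [← Fr.mem_rootQ_iff hF hg'] 
  rw [← Fr.mem_rootQ_iff hF hg] at h0
  rw [← hα, rootQ_piMap, he]
  exact ⟨_, h0, rfl⟩

/-- The coordinate map. -/
theorem exists_coord : ∃ A : (Fin d → F) →+ (Fin d → F),
    ∀ g ∈ Qg, ∀ g' ∈ Qg, cc g' = α (cc g) → Fr.wc g' = A (Fr.wc g) := by
  classical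
  choose s hs hsw using Fr.exists_q_wc hF
  choose t ht hte using fun w => Fr.exists_lift hF hd α hα (hs w)
  have key : ∀ g ∈ Qg, ∀ g' ∈ Qg, cc g' = α (cc g) → Fr.wc g' = Fr.wc (t (Fr.wc g)) := by
    intro g hg g' hg' he
    have h := Fr.wc_lift_eq_zero hF hd α hα (mul_mem (inv_mem (hs (Fr.wc g))) hg)
      (mul_mem (inv_mem (ht (Fr.wc g))) hg')
      (by rw [map_mul, map_mul, map_inv, map_inv, map_mul, map_inv, hte, he])
      (by rw [Fr.wc_inv_mul hF (hs _) hg, hsw, sub_self])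
    rwa [Fr.wc_inv_mul hF (ht _) hg', sub_eq_zero] at h
  refine ⟨AddMonoidHom.mk' (fun w => Fr.wc (t w)) fun u v => ?_, key⟩
  have h := key (s u * s v) (mul_mem (hs u) (hs v)) (t u * t v) (mul_mem (ht u) (ht v))
    (by rw [map_mul, map_mul, map_mul, hte, hte])
  rw [(Fr.ec_wc_mul hF (hs u) (hs v)).2, hsw, hsw, (Fr.ec_wc_mul hF (ht u) (ht v)).2] at h
  exact h.symm

omit hα in
theorem exists_coord_equiv (hα : piMap hF (by omega) α (Fr.pe hF) = Fr.pe hF) :
    ∃ A : (Fin d → F) ≃+ (Fin d → F),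
      ∀ g ∈ Qg, ∀ g' ∈ Qg, cc g' = α (cc g) → Fr.wc g' = A (Fr.wc g) := by
  have hinv : piMap hF (by omega) α⁻¹ (Fr.pe hF) = Fr.pe hF := by
    conv_lhs => rw [← hα]
    rw [← piMap_mul, inv_mul_cancel, piMap_one]
  obtain ⟨A, hA⟩ := Fr.exists_coord hF hd α hα
  obtain ⟨B, hB⟩ := Fr.exists_coord hF hd α⁻¹ hinv
  have hBA : ∀ w, B (A w) = w := by
    intro w
    obtain ⟨g, hg, rfl⟩ := Fr.exists_q_wc hF w
    obtain ⟨g', hg', he⟩ := Fr.exists_lift hF hd α hα hg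
    rw [← hA g hg g' hg' he]
    exact (hB g' hg' g hg (by rw [he]; exact (α.symm_apply_apply _).symm)).symm
  have hAB : ∀ w, A (B w) = w := by
    intro w
    obtain ⟨g, hg, rfl⟩ := Fr.exists_q_wc hF w
    obtain ⟨g', hg', he⟩ := Fr.exists_lift hF hd α⁻¹ hinv hg
    rw [← hB g hg g' hg' he]
    exact (hA g' hg' g hg (by rw [he]; exact (α.apply_symm_apply _).symm)).symm
  exact ⟨⟨⟨A, B, hBA, hAB⟩, map_add A⟩, hA⟩

variable (hα' : piMap hF (by omega) α (Fr.pf hF) = Fr.pf hF)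
include hα'

theorem lev_lift {g : Cfsg.SU (2 + d) F q} {l : F} {G : Matrix (Fin d) (Fin d) F}
    (hg : Fr.IsLev g l G) :
    ∃ g' l' G', Fr.IsLev g' l' G' ∧ cc g' = α (cc g) := by
  obtain ⟨g', he⟩ := cl_surjective (α (cc g))
  obtain ⟨hl, h1, h2, -⟩ := hg
  have e1 : g • Fr.pe hF = Fr.pe hF := (Fr.smul_pe_iff hF g).2 ⟨l, h1.symm⟩
  have e2 : g • Fr.pf hF = Fr.pf hF := by
    rw [pf, IsoLine.smul_mk, IsoLine.mk_eq_iff]
    exact ⟨_, h2.symm⟩
  have f1 := piMap_smul hF (by omega) α he (Fr.pe hF)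
  rw [e1, hα] at f1
  have f2 := piMap_smul hF (by omega) α he (Fr.pf hF)
  rw [e2, hα'] at f2
  obtain ⟨a, ha⟩ := (Fr.smul_pe_iff hF g').1 f1.symm
  rw [pf, IsoLine.smul_mk, eq_comm, IsoLine.mk_eq_iff] at f2
  obtain ⟨b, hb⟩ := f2
  obtain ⟨l', G', hlev⟩ := Fr.exists_isLev hF ha.symm hb.symm
  exact ⟨g', l', G', hlev, he⟩

theorem coord_lev {A : (Fin d → F) →+ (Fin d → F)}
    (hA : ∀ g ∈ Qg, ∀ g' ∈ Qg, cc g' = α (cc g) → Fr.wc g' = A (Fr.wc g))
    {g g' : Cfsg.SU (2 + d) F q} {l l' : F} {G G' : Matrix (Fin d) (Fin d) F}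
    (hg : Fr.IsLev g l G) (hg' : Fr.IsLev g' l' G') (he : cc g' = α (cc g)) (w : Fin d → F) :
    A (l ^ q • G *ᵥ w) = l' ^ q • G' *ᵥ A w := by
  obtain ⟨h, hh, rfl⟩ := Fr.exists_q_wc hF w
  obtain ⟨h', hh', he'⟩ := Fr.exists_lift hF hd α hα hh
  obtain ⟨a1, a2, -⟩ := Fr.isLev_conj hF hg hh
  obtain ⟨b1, b2, -⟩ := Fr.isLev_conj hF hg' hh'
  have := hA _ a1 _ b1 (by
    rw [map_mul, map_mul, map_inv, map_mul, map_mul, map_inv, map_mul, map_mul, map_inv, he, he'])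
  rw [a2, b2, hA h hh h' hh' he'] at this
  exact this.symm

/-- The coordinate map is semilinear. -/
theorem coord_semilinear (hs : ¬(d = 1 ∧ q = 2)) {A : (Fin d → F) ≃+ (Fin d → F)}
    (hA : ∀ g ∈ Qg, ∀ g' ∈ Qg, cc g' = α (cc g) → Fr.wc g' = A (Fr.wc g)) :
    ∃ σ : F ≃+* F, ∀ c w, A (c • w) = σ c • A w := by
  classical
  have hz : ∀ c : F, ∃ z : F, ∀ w, A (z • w) = c • A w := by
    intro c
    let Z : (Fin d → F) →+ (Fin d → F) :=
      AddMonoidHom.mk' (fun w => A.symm (c • A w)) fun u v => by simp [smul_add]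
    obtain ⟨z, hz⟩ := Fr.lev_commutant hF hd hs Z fun g l G hg w => by
      obtain ⟨g', l', G', hg', he⟩ := Fr.lev_lift hF hd α hα hα' hg
      have key : ∀ v, A (l ^ q • G *ᵥ v) = l' ^ q • G' *ᵥ A v :=
        Fr.coord_lev hF hd α hα hα' (A := A.toAddMonoidHom) hA hg hg' he
      apply A.injective
      show A (A.symm _) = A _
      rw [A.apply_symm_apply, key, key,
        show A (Z w) = c • A w from A.apply_symm_apply _, Matrix.mulVec_smul, smul_comm]
    exact ⟨z, fun w => by rw [← hz w]; exact A.apply_symm_apply _⟩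
  choose τ hτ using hz
  have hu : (Pi.single (⟨0, hd⟩ : Fin d) (1 : F) : Fin d → F) ≠ 0 := by simp
  have inj : ∀ a b : F, A (a • Pi.single (⟨0, hd⟩ : Fin d) (1 : F)) =
      A (b • Pi.single (⟨0, hd⟩ : Fin d) (1 : F)) → a = b := fun a b h =>
    smul_left_injective F hu (A.injective h)
  let T : F →+* F :=
    { toFun := τ
      map_one' := inj _ _ (by rw [hτ, one_smul, one_smul])
      map_mul' := fun a b => inj _ _ (by rw [hτ, mul_smul, ← hτ b, ← hτ a, smul_smul])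
      map_zero' := inj _ _ (by rw [hτ, zero_smul, zero_smul, map_zero])
      map_add' := fun a b => inj _ _ (by rw [hτ, add_smul, add_smul, map_add, hτ, hτ]) }
  have hbij : Function.Bijective T :=
    (Finite.injective_iff_bijective).1 T.injective
  refine ⟨(RingEquiv.ofBijective T hbij).symm, fun c w => ?_⟩
  rw [← hτ, show τ ((RingEquiv.ofBijective T hbij).symm c) = c from
    (RingEquiv.ofBijective T hbij).apply_symm_apply c]

omit hα' in
theorem coord_comm {A : (Fin d → F) →+ (Fin d → F)}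
    (hA : ∀ g ∈ Qg, ∀ g' ∈ Qg, cc g' = α (cc g) → Fr.wc g' = A (Fr.wc g))
    {u v u' v' : Fin d → F} (h : hW u v - hW v u = hW u' v' - hW v' u') :
    hW (A u) (A v) - hW (A v) (A u) = hW (A u') (A v') - hW (A v') (A u') := by
  obtain ⟨g1, h1, rfl⟩ := Fr.exists_q_wc hF u
  obtain ⟨g2, h2, rfl⟩ := Fr.exists_q_wc hF v
  obtain ⟨g3, h3, rfl⟩ := Fr.exists_q_wc hF u'
  obtain ⟨g4, h4, rfl⟩ := Fr.exists_q_wc hF v'
  obtain ⟨k1, m1, e1⟩ := Fr.exists_lift hF hd α hα h1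
  obtain ⟨k2, m2, e2⟩ := Fr.exists_lift hF hd α hα h2
  obtain ⟨k3, m3, e3⟩ := Fr.exists_lift hF hd α hα h3
  obtain ⟨k4, m4, e4⟩ := Fr.exists_lift hF hd α hα h4
  rw [← hA _ h1 _ m1 e1, ← hA _ h2 _ m2 e2, ← hA _ h3 _ m3 e3, ← hA _ h4 _ m4 e4]
  obtain ⟨a1, a2⟩ := Fr.commutator_coord hF h1 h2
  obtain ⟨b1, b2⟩ := Fr.commutator_coord hF h3 h4
  have heq : g1 * g2 * g1⁻¹ * g2⁻¹ = g3 * g4 * g3⁻¹ * g4⁻¹ :=
    Fr.qGroup_ext hF (mul_mem (mul_mem (mul_mem h1 h2) (inv_mem h1)) (inv_mem h2))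
      (mul_mem (mul_mem (mul_mem h3 h4) (inv_mem h3)) (inv_mem h4)) (by rw [a1, b1])
      (by rw [a2, b2, h])
  have heq' : k1 * k2 * k1⁻¹ * k2⁻¹ = k3 * k4 * k3⁻¹ * k4⁻¹ :=
    Fr.cl_inj hF (mul_mem (mul_mem (mul_mem m1 m2) (inv_mem m1)) (inv_mem m2))
      (mul_mem (mul_mem (mul_mem m3 m4) (inv_mem m3)) (inv_mem m4)) (by
      simp only [map_mul, map_inv, e1, e2, e3, e4]
      have := congrArg (fun x => α (cc x)) heq
      simp only [map_mul, map_inv] at this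
      exact this)
  rw [← (Fr.commutator_coord hF m1 m2).2, ← (Fr.commutator_coord hF m3 m4).2, heq']

omit hα' in
/-- The coordinate map is a similitude. -/
theorem coord_herm {A : (Fin d → F) ≃+ (Fin d → F)}
    (hA : ∀ g ∈ Qg, ∀ g' ∈ Qg, cc g' = α (cc g) → Fr.wc g' = A (Fr.wc g))
    {σ : F ≃+* F} (hσ : ∀ c w, A (c • w) = σ c • A w) :
    ∃ k : F, k ≠ 0 ∧ k ^ q = k ∧ ∀ w w', hW (A w) (A w') = k * σ (hW w w') := by
  classical
  have H := hermForm_isHerm hF d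
  have ho := single_orthonormal (F := F) hF d
  have comm := @coord_comm F _ _ q d Fr hF hd α hα A.toAddMonoidHom hA
  obtain ⟨t, ht⟩ := exists_nonfixed hF
  have orth : ∀ u v, hW u v = 0 → hW (A u) (A v) = 0 := by
    intro u v h
    have hsk : ∀ s : F, s * hW (A u) (A v) - s ^ q * hW (A u) (A v) ^ q = 0 := by
      intro s
      have h' : hW v u = 0 := (H.eq_zero_symm hF).1 h
      have := comm (u := σ.symm s • u) (v := v) (u' := 0) (v' := 0) (by
        simp [H.smul_left, H.smul_right, h, h', H.zero_left])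
      simp only [AddEquiv.coe_toAddMonoidHom, map_zero, H.zero_left, sub_self, hσ,
        RingEquiv.apply_symm_apply, H.smul_left, H.smul_right] at this
      rwa [H.conj_symm (A u) (A v)] at this
    have h1 := hsk 1
    rw [one_mul, one_pow, one_mul, sub_eq_zero] at h1
    have h2 := hsk t
    rw [← h1, ← sub_mul] at h2
    exact (mul_eq_zero.1 h2).resolve_left ht
  let i₀ : Fin d := ⟨0, hd⟩
  let E : Fin d → (Fin d → F) := fun i => Pi.single i 1
  have hE : ∀ i j, hW (E i) (E j) = if i = j then 1 else 0 := fun i j => ho.apply i j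
  set k := hW (A (E i₀)) (A (E i₀)) with hk
  have hii : ∀ i, hW (A (E i)) (A (E i)) = k := by
    intro i
    have := comm (u := σ.symm t • E i) (v := E i) (u' := σ.symm t • E i₀) (v' := E i₀) (by
      simp [H.smul_left, H.smul_right, hE])
    simp only [AddEquiv.coe_toAddMonoidHom, hσ, RingEquiv.apply_symm_apply, H.smul_left,
      H.smul_right, ← sub_mul] at this
    exact mul_left_cancel₀ ht this
  have hij : ∀ i j, hW (A (E i)) (A (E j)) = k * σ (hW (E i) (E j)) := by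
    intro i j
    rw [hE]
    rcases eq_or_ne i j with rfl | h
    · rw [if_pos rfl, hii, map_one, mul_one]
    · rw [if_neg h, map_zero, mul_zero]
      exact orth _ _ (by rw [hE, if_neg h])
  have expand : ∀ w, w = ∑ i, w i • E i := fun w => pi_eq_sum_univ' w
  have hAs : ∀ w, A w = ∑ i, σ (w i) • A (E i) := fun w => by
    conv_lhs => rw [expand w, map_sum]
    exact Finset.sum_congr rfl fun i _ => hσ _ _
  have main : ∀ w w', hW (A w) (A w') = k * σ (hW w w') := by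
    intro w w'
    conv_rhs => rw [expand w, expand w']
    rw [hAs w, hAs w']
    simp only [H.sum_left, H.sum_right hF, H.smul_left, H.smul_right, map_sum, map_mul, map_pow,
      Finset.mul_sum, hij]
    exact Finset.sum_congr rfl fun i _ => Finset.sum_congr rfl fun j _ => by ring
  refine ⟨k, fun h0 => ?_, H.self_fixed _, main⟩
  have hz : A (E i₀) = 0 := hermForm_nondeg hF d _ fun y => by
    rw [← A.apply_symm_apply y, main, h0, zero_mul]
  have hE0 : E i₀ = 0 := A.injective (hz.trans (map_zero A).symm)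
  simpa [E] using congrFun hE0 i₀

/-- Trivial coordinates: the radical is fixed pointwise. -/
theorem fix_radical (hs : ¬(d = 1 ∧ q = 2))
    (hA : ∀ g ∈ Qg, ∀ g' ∈ Qg, cc g' = α (cc g) → Fr.wc g' = Fr.wc g)
    {g : Cfsg.SU (2 + d) F q} (hg : g ∈ Qg) : α (cc g) = cc g := by
  classical
  have H := hermForm_isHerm hF d
  have hk : ∀ g ∈ Qg, Fr.wc g = 0 → α (cc g) = cc g := by
    intro g hg h0
    obtain ⟨c, hc⟩ := exists_sub_conj hF (Fr.ec_skew hF hg h0)
    let i₀ : Fin d := ⟨0, hd⟩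
    obtain ⟨g1, h1, e1⟩ := Fr.exists_q_wc hF (c • Pi.single i₀ (1 : F))
    obtain ⟨g2, h2, e2⟩ := Fr.exists_q_wc hF (Pi.single i₀ (1 : F))
    obtain ⟨a1, a2⟩ := Fr.commutator_coord hF h1 h2
    rw [e1, e2, H.smul_left, H.smul_right, (single_orthonormal hF d).apply, if_pos rfl, mul_one,
      mul_one, hc] at a2
    have hgc : g = g1 * g2 * g1⁻¹ * g2⁻¹ := Fr.qGroup_ext hF hg
      (mul_mem (mul_mem (mul_mem h1 h2) (inv_mem h1)) (inv_mem h2)) (by rw [h0, a1]) a2.symm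
    obtain ⟨k1, m1, f1⟩ := Fr.exists_lift hF hd α hα h1
    obtain ⟨k2, m2, f2⟩ := Fr.exists_lift hF hd α hα h2
    have heq : k1 * k2 * k1⁻¹ * k2⁻¹ = g := by
      rw [hgc]
      refine Fr.qGroup_ext hF (mul_mem (mul_mem (mul_mem m1 m2) (inv_mem m1)) (inv_mem m2))
        (mul_mem (mul_mem (mul_mem h1 h2) (inv_mem h1)) (inv_mem h2)) ?_ ?_
      · rw [a1, (Fr.commutator_coord hF m1 m2).1]
      · rw [(Fr.commutator_coord hF m1 m2).2, hA _ h1 _ m1 f1, hA _ h2 _ m2 f2,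
          (Fr.commutator_coord hF h1 h2).2]
    conv_lhs => rw [hgc]
    conv_rhs => rw [← heq]
    simp only [map_mul, map_inv, f1, f2]
  choose s hs' hsw using Fr.exists_q_wc hF
  choose t ht hte using fun w => Fr.exists_lift hF hd α hα (hs' w)
  have htw : ∀ w, Fr.wc (t w) = w := fun w => by rw [hA _ (hs' w) _ (ht w) (hte w), hsw]
  -- the defect of a lift depends only on the coordinate
  have key : ∀ g ∈ Qg, ∀ g' ∈ Qg, cc g' = α (cc g) →
      Fr.ec g' - Fr.ec g = Fr.ec (t (Fr.wc g)) - Fr.ec (s (Fr.wc g)) := by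
    intro g hg g' hg' he
    set w := Fr.wc g with hw
    have hu : (s w)⁻¹ * g ∈ Qg := mul_mem (inv_mem (hs' w)) hg
    have h1 : g' = t w * ((s w)⁻¹ * g) := Fr.cl_inj hF hg' (mul_mem (ht w) hu) (by
      rw [map_mul, hte, ← hk _ hu (by rw [Fr.wc_inv_mul hF (hs' w) hg, hsw, hw, sub_self]),
        ← map_mul, ← map_mul, mul_inv_cancel_left, he])
    have h2 := (Fr.ec_wc_mul hF (ht w) hu).1
    have h3 := (Fr.ec_wc_mul hF (hs' w) hu).1
    rw [mul_inv_cancel_left, htw, hsw] at *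
    rw [h1, h2, h3]
    ring
  let η : (Fin d → F) →+ F := AddMonoidHom.mk' (fun w => Fr.ec (t w) - Fr.ec (s w)) fun u v => by
    have h := key _ (mul_mem (hs' u) (hs' v)) _ (mul_mem (ht u) (ht v))
      (by simp only [map_mul, hte])
    rw [(Fr.ec_wc_mul hF (hs' u) (hs' v)).2, (Fr.ec_wc_mul hF (hs' u) (hs' v)).1,
      (Fr.ec_wc_mul hF (ht u) (ht v)).1, hsw, hsw, htw, htw] at h
    rw [← h]
    ring
  have hη : ∀ g l G, Fr.IsLev g l G → ∀ w,
      η (l ^ q • G *ᵥ w) = l ^ (q + 1) * η w := by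
    intro g l G hlev w
    obtain ⟨g', l', G', hlev', he⟩ := Fr.lev_lift hF hd α hα hα' hlev
    obtain ⟨a1, a2, a3⟩ := Fr.isLev_conj hF hlev (hs' w)
    obtain ⟨b1, -, b3⟩ := Fr.isLev_conj hF hlev' (ht w)
    have hN : l' ^ (q + 1) = l ^ (q + 1) := by
      obtain ⟨δ, hδ0, hδ⟩ := exists_skew hF
      obtain ⟨c1, c2, c3⟩ := Fr.transv_mem hF δ (by rw [hδ, add_neg_cancel])
      obtain ⟨d1, d2, d3⟩ := Fr.isLev_conj hF hlev c1
      obtain ⟨e1, e2, e3⟩ := Fr.isLev_conj hF hlev' c1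
      rw [c2, Matrix.mulVec_zero, smul_zero] at d2
      have := congrArg Fr.ec (Fr.cl_inj hF e1 d1 (by
        rw [← hk _ d1 d2]
        simp only [map_mul, map_inv, he, hk _ c1 c2]))
      rw [e3, d3, c3] at this
      exact mul_right_cancel₀ hδ0 this
    have h := key _ a1 _ b1 (by simp only [map_mul, map_inv, he, hte])
    rw [a2, a3, b3, hN, hsw, ← mul_sub] at h
    exact h.symm
  have hη0 : ∀ w, η w = 0 := by
    intro w
    rw [← Finset.univ_sum_single w, map_sum]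
    refine Finset.sum_eq_zero fun i _ => ?_
    obtain ⟨g, l, μ, hlev, hl, hne⟩ := Fr.exists_diag_ne_one hF hs i
    have h := hη g l _ hlev (Pi.single i (w i / (l ^ q * μ i - 1)))
    rw [hl, one_mul, Matrix.diagonal_mulVec_single, ← Pi.single_smul', smul_eq_mul,
      ← sub_eq_zero, ← map_sub, ← Pi.single_sub] at h
    rw [← h]
    congr 2
    have : l ^ q * μ i - 1 ≠ 0 := sub_ne_zero.2 hne
    field_simp
  obtain ⟨g', hg', he⟩ := Fr.exists_lift hF hd α hα hg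
  have h := (key g hg g' hg' he).trans (hη0 (Fr.wc g))
  rw [← he, Fr.qGroup_ext hF hg' hg (hA g hg g' hg' he) (sub_eq_zero.1 h)]

omit hα' hα hd in
/-- A point opposite the first frame point is moved to the second one by the radical. -/
theorem exists_q_move {v : Fin (2 + d) → F} (hv0 : hm v v = 0) (hve : hm v Fr.e = 1) :
    ∃ g ∈ Qg, suAct g Fr.f = v := by
  have H := hermForm_isHerm hF (2 + d)
  have hdec := Fr.decomp hF v
  rw [hve, one_smul] at hdec
  obtain ⟨g, hg, hgw⟩ := Fr.exists_q_wc hF (Fr.wco v)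
  have hn := Fr.ec_norm hF hg
  rw [hgw] at hn
  have hvn : hm v Fr.f + hm v Fr.f ^ q + hW (Fr.wco v) (Fr.wco v) = 0 := by
    have h1 := hv0
    rw [hdec] at h1
    simp only [H.add_left, H.add_right hF, H.smul_left, H.smul_right, Fr.ee, Fr.ef, Fr.fe hF, Fr.ff,
      Fr.e_emb hF, Fr.f_emb hF, Fr.emb_e hF, Fr.emb_f hF, Fr.emb_herm hF] at h1
    linear_combination h1
  set a := hm v Fr.f - Fr.ec g with ha
  have hskew : a + a ^ q = 0 := by
    rw [ha, sub_pow_q hF]; linear_combination hvn - hn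
  obtain ⟨t1, t2, t3⟩ := Fr.transv_mem hF a hskew
  obtain ⟨e1, e2⟩ := Fr.ec_wc_mul hF hg t1
  refine ⟨g * suTransvection hF Fr.e Fr.ee a hskew, mul_mem hg t1, ?_⟩
  rw [Fr.act_f hF (mul_mem hg t1), e1, e2, t2, t3, add_zero, hgw,
    (hermForm_isHerm hF d).zero_left, sub_zero, ha, add_sub_cancel]
  exact hdec.symm

omit hα' hα hd in
/-- A point off the first one separates by a point opposite it. -/
theorem exists_separating {v v' : Fin (2 + d) → F} (hv : hm v Fr.e = 0) (hv' : hm v' Fr.e = 0)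
    (hvne : ∀ a : F, a • Fr.e ≠ v) (hne : ∀ a : F, a • v ≠ v') :
    ∃ z, hm z z = 0 ∧ hm z Fr.e = 1 ∧ hm v z = 0 ∧ hm v' z ≠ 0 := by
  classical
  have H := hermForm_isHerm hF d
  have HH := hermForm_isHerm hF (2 + d)
  have dv : v = hm v Fr.f • Fr.e + Fr.emb (Fr.wco v) := by
    conv_lhs => rw [Fr.decomp hF v, hv, zero_smul, add_zero]
  have dv' : v' = hm v' Fr.f • Fr.e + Fr.emb (Fr.wco v') := by
    conv_lhs => rw [Fr.decomp hF v', hv', zero_smul, add_zero]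
  set α' := hm v Fr.f
  set β' := hm v' Fr.f
  set w := Fr.wco v
  set w' := Fr.wco v'
  obtain ⟨i, hi⟩ : ∃ i, w i ≠ 0 := Function.ne_iff.1 fun h0 : w = 0 =>
    hvne α' (by rw [dv, h0, emb_zero, add_zero])
  have hsingle : ∀ (x : Fin d → F) (j : Fin d) (c : F), hW x (Pi.single j c) = x j * c ^ q := by
    intro x j c
    rw [show (Pi.single j c : Fin d → F) = c • Pi.single j 1 by rw [← Pi.single_smul']; simp,
      H.smul_right, hermForm_single_right hF, mul_comm]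
  have suff : ∀ u, hW w u = -α' → hW w' u ≠ -β' →
      ∃ z, hm z z = 0 ∧ hm z Fr.e = 1 ∧ hm v z = 0 ∧ hm v' z ≠ 0 := by
    intro u h1 h2
    obtain ⟨t, ht⟩ := exists_trace_eq hF (c := -hW u u)
      (by rw [neg_pow_q hF, H.self_fixed])
    refine ⟨t • Fr.e + (1 : F) • Fr.f + Fr.emb u, ?_, (Fr.comb_apply hF _ _ _).1, ?_, ?_⟩
    · simp only [HH.add_left, HH.add_right hF, HH.smul_left, HH.smul_right, Fr.ee, Fr.ef, Fr.fe hF,
        Fr.ff, Fr.e_emb hF, Fr.f_emb hF, Fr.emb_e hF, Fr.emb_f hF, Fr.emb_herm hF]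
      linear_combination ht
    · rw [dv]
      simp only [HH.add_left, HH.add_right hF, HH.smul_left, HH.smul_right, Fr.ee, Fr.ef,
        Fr.e_emb hF, Fr.emb_e hF, Fr.emb_f hF, Fr.emb_herm hF, one_pow]
      linear_combination h1
    · intro h0
      apply h2
      rw [dv'] at h0
      simp only [HH.add_left, HH.add_right hF, HH.smul_left, HH.smul_right, Fr.ee, Fr.ef,
        Fr.e_emb hF, Fr.emb_e hF, Fr.emb_f hF, Fr.emb_herm hF, one_pow] at h0
      linear_combination h0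
  set u0 : Fin d → F := Pi.single i ((-α' / w i) ^ q)
  have hu0 : hW w u0 = -α' := by
    rw [hsingle, pow_q_pow_q hF, mul_div_cancel₀ _ hi]
  by_cases h0 : hW w' u0 = -β'
  · by_contra hno
    have hz : ∀ u1, hW w u1 = 0 → hW w' u1 = 0 := by
      intro u1 h1
      by_contra h2
      exact hno (suff (u0 + u1) (by rw [H.add_right hF, hu0, h1, add_zero])
        (by rw [H.add_right hF, h0]; simpa using h2))
    set b := w' i / w i
    have hw' : w' = b • w := by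
      funext j
      have h1 := hz (Pi.single j (w i ^ q) - Pi.single i (w j ^ q)) (by
        rw [H.sub_right hF, hsingle, hsingle, pow_q_pow_q hF, pow_q_pow_q hF]; ring)
      rw [H.sub_right hF, hsingle, hsingle, pow_q_pow_q hF, pow_q_pow_q hF, sub_eq_zero] at h1
      rw [Pi.smul_apply, smul_eq_mul, div_mul_eq_mul_div, eq_div_iff hi, h1]
    have hb : β' = b * α' := by
      rw [hw', H.smul_left, hu0] at h0
      linear_combination h0
    exact hne b (by rw [dv, dv', hw', hb, smul_add, smul_smul, emb_smul])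
  · exact suff u0 hu0 h0

/-- Trivial coordinates mean a trivial automorphism. -/
theorem eq_one_of_coord (hs : ¬(d = 1 ∧ q = 2))
    (hA : ∀ g ∈ Qg, ∀ g' ∈ Qg, cc g' = α (cc g) → Fr.wc g' = Fr.wc g) : α = 1 := by
  have H := hermForm_isHerm hF (2 + d)
  have hn : 3 ≤ 2 + d := by omega
  have hopp : ∀ (v : Fin (2 + d) → F) (hv : v ≠ 0) (hv0 : hm v v = 0), hm v Fr.e = 1 →
      piMap hF hn α (IsoLine.mk v hv hv0) = IsoLine.mk v hv hv0 := by
    intro v hv hv0 hve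
    obtain ⟨g, hg, hgf⟩ := Fr.exists_q_move hF hv0 hve
    have hp : g • Fr.pf hF = IsoLine.mk v hv hv0 := by
      rw [pf, IsoLine.smul_mk, IsoLine.mk_eq_iff]
      exact ⟨1, by rw [one_smul, hgf]⟩
    rw [← hp, piMap_smul hF hn α (Fr.fix_radical hF hd α hα hα' hs hA hg).symm, hα']
  refine eq_one_of_piMap hF hn fun p => ?_
  obtain ⟨v, hv, hv0, rfl⟩ := p.exists_mk
  by_cases hve : hm v Fr.e = 0
  · by_cases hvp : ∃ a : F, a • Fr.e = v
    · obtain ⟨a, ha⟩ := hvp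
      have : IsoLine.mk v hv hv0 = Fr.pe hF := by
        rw [pe, IsoLine.mk_eq_iff]
        exact ⟨a, ha⟩
      rw [this, hα]
    · simp only [not_exists] at hvp
      obtain ⟨v', hv', hv0', hπ⟩ := (piMap hF hn α (IsoLine.mk v hv hv0)).exists_mk
      rw [hπ]
      by_contra hne
      have ho := (piMap_orth hF hn α (IsoLine.mk v hv hv0) (Fr.pe hF)).2 ((orth_mk hF).2 hve)
      rw [hπ, hα] at ho
      obtain ⟨z, hz0, hze, hvz, hvz'⟩ := Fr.exists_separating hF hve ((orth_mk hF).1 ho) hvp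
        fun a ha => hne (by
          rw [IsoLine.mk_eq_iff]
          exact ⟨a, ha⟩)
      have hz : z ≠ 0 := fun h => by rw [h, H.zero_left] at hze; exact zero_ne_one hze
      have ho' := (piMap_orth hF hn α (IsoLine.mk v hv hv0) (IsoLine.mk z hz hz0)).2
        ((orth_mk hF).2 hvz)
      rw [hπ, hopp z hz hz0 hze] at ho'
      exact hvz' ((orth_mk hF).1 ho')
  · have hz0 : hm ((hm v Fr.e)⁻¹ • v) ((hm v Fr.e)⁻¹ • v) = 0 := by
      rw [H.smul_left, H.smul_right, hv0, mul_zero, mul_zero]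
    have hz : (hm v Fr.e)⁻¹ • v ≠ 0 := smul_ne_zero (inv_ne_zero hve) hv
    have he : IsoLine.mk v hv hv0 = IsoLine.mk _ hz hz0 := by
      rw [IsoLine.mk_eq_iff]
      exact ⟨hm v Fr.e, by rw [smul_inv_smul₀ hve]⟩
    rw [he]
    exact hopp _ hz hz0 (by rw [H.smul_left, inv_mul_cancel₀ hve])

end UFrame

end Cfsg.Agent.AutPSU
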