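import Cfsg.Agent.Lib.AutPSU.Points
import Cfsg.Agent.Lib.Unitary.Subspaces

/-!
# Hyperbolic frames

* `UFrame`, `exists_uframe`, `UFrame.decomp`, `exists_gu_uframe` (Witt for frames)
* `wc`, `ec` : coordinates on the unipotent radical of the stabiliser of the first frame vector
* `IsLev`, `exists_lev_diag`, `exists_lev_swap`, conjugation formulas
* `map_qbar` : automorphisms fixing the point preserve that radical
-/

set_option autoImplicit false

namespace Cfsg.Agent.AutPSU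

open scoped Matrix
open Cfsg.Agent.Unitary

variable {F : Type*} [Field F] {q d : ℕ}

local notation "hm" => Cfsg.hermForm (2 + d) F q
local notation "Vec" => (Fin (2 + d) → F)
local notation "hW" => Cfsg.hermForm d F q

/-- A hyperbolic pair with an orthonormal family orthogonal to it. -/
structure UFrame (d : ℕ) (F : Type*) [Field F] (q : ℕ) where
  e : Fin (2 + d) → F
  f : Fin (2 + d) → F
  b : Fin d → (Fin (2 + d) → F)
  ee : Cfsg.hermForm (2 + d) F q e e = 0
  ff : Cfsg.hermForm (2 + d) F q f f = 0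
  ef : Cfsg.hermForm (2 + d) F q e f = 1
  be : ∀ i, Cfsg.hermForm (2 + d) F q (b i) e = 0
  bf : ∀ i, Cfsg.hermForm (2 + d) F q (b i) f = 0
  bb : ∀ i j, Cfsg.hermForm (2 + d) F q (b i) (b j) = if i = j then 1 else 0

namespace UFrame

variable (Fr : UFrame d F q)

/-- The members of the frame. -/
def fam : Fin (2 + d) → (Fin (2 + d) → F) := Fin.append ![Fr.e, Fr.f] Fr.b

/-- A vector of the orthogonal complement from its coordinates. -/
def emb (w : Fin d → F) : Fin (2 + d) → F := ∑ i, w i • Fr.b i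

/-- The coordinates orthogonal to the pair. -/
def wco (x : Fin (2 + d) → F) : Fin d → F := fun i => Cfsg.hermForm (2 + d) F q x (Fr.b i)

variable [Fintype F] (hF : Fintype.card F = q ^ 2)
include hF

theorem fe : hm Fr.f Fr.e = 1 := by
  rw [(hermForm_isHerm hF _).conj_symm Fr.e Fr.f, Fr.ef, one_pow]

theorem eb (i : Fin d) : hm Fr.e (Fr.b i) = 0 := ((hermForm_isHerm hF _).eq_zero_symm hF).1 (Fr.be i)

theorem fb (i : Fin d) : hm Fr.f (Fr.b i) = 0 := ((hermForm_isHerm hF _).eq_zero_symm hF).1 (Fr.bf i)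

theorem emb_e (w : Fin d → F) : hm (Fr.emb w) Fr.e = 0 := by
  rw [emb, (hermForm_isHerm hF _).sum_left]
  exact Finset.sum_eq_zero fun i _ => by rw [(hermForm_isHerm hF _).smul_left, Fr.be, mul_zero]

theorem emb_f (w : Fin d → F) : hm (Fr.emb w) Fr.f = 0 := by
  rw [emb, (hermForm_isHerm hF _).sum_left]
  exact Finset.sum_eq_zero fun i _ => by rw [(hermForm_isHerm hF _).smul_left, Fr.bf, mul_zero]

theorem e_emb (w : Fin d → F) : hm Fr.e (Fr.emb w) = 0 :=
  ((hermForm_isHerm hF _).eq_zero_symm hF).1 (Fr.emb_e hF w)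

theorem f_emb (w : Fin d → F) : hm Fr.f (Fr.emb w) = 0 :=
  ((hermForm_isHerm hF _).eq_zero_symm hF).1 (Fr.emb_f hF w)

theorem wco_emb (w : Fin d → F) : Fr.wco (Fr.emb w) = w := by
  funext j
  rw [wco, emb, (hermForm_isHerm hF _).sum_left]
  simp [(hermForm_isHerm hF _).smul_left, Fr.bb]

theorem emb_herm (w w' : Fin d → F) : hm (Fr.emb w) (Fr.emb w') = hW w w' := by
  have h1 : hm (Fr.emb w) (Fr.emb w') = ∑ i, w' i ^ q * hm (Fr.emb w) (Fr.b i) := by
    conv_lhs => rw [show Fr.emb w' = ∑ i, w' i • Fr.b i from rfl]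
    rw [(hermForm_isHerm hF _).sum_right hF]
    exact Finset.sum_congr rfl fun i _ => by rw [(hermForm_isHerm hF _).smul_right]
  rw [h1, Cfsg.hermForm]
  refine Finset.sum_congr rfl fun i _ => ?_
  rw [show hm (Fr.emb w) (Fr.b i) = w i from congrFun (Fr.wco_emb hF w) i, mul_comm]

theorem comb_apply (α β : F) (w : Fin d → F) :
    hm (α • Fr.e + β • Fr.f + Fr.emb w) Fr.e = β ∧
    hm (α • Fr.e + β • Fr.f + Fr.emb w) Fr.f = α ∧
    Fr.wco (α • Fr.e + β • Fr.f + Fr.emb w) = w := by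
  have H := hermForm_isHerm hF (2 + d)
  refine ⟨?_, ?_, funext fun i => ?_⟩
  · rw [H.add_left, H.add_left, H.smul_left, H.smul_left, Fr.ee, Fr.fe hF, Fr.emb_e hF]; ring
  · rw [H.add_left, H.add_left, H.smul_left, H.smul_left, Fr.ef, Fr.ff, Fr.emb_f hF]; ring
  · rw [wco, H.add_left, H.add_left, H.smul_left, H.smul_left, Fr.eb hF, Fr.fb hF,
      show hm (Fr.emb w) (Fr.b i) = w i from congrFun (Fr.wco_emb hF w) i]
    ring

theorem fam_sum (c : Fin (2 + d) → F) :
    ∑ k, c k • Fr.fam k = c (Fin.castAdd d 0) • Fr.e + c (Fin.castAdd d 1) • Fr.f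
      + Fr.emb fun i => c (Fin.natAdd 2 i) := by
  rw [Fin.sum_univ_add, Fin.sum_univ_two, emb]
  simp [fam]

theorem linearIndependent_fam : LinearIndependent F Fr.fam := by
  rw [Fintype.linearIndependent_iff]
  intro c hc
  rw [Fr.fam_sum hF] at hc
  obtain ⟨h1, h2, h3⟩ := Fr.comb_apply hF (c (Fin.castAdd d 0)) (c (Fin.castAdd d 1))
    fun i => c (Fin.natAdd 2 i)
  rw [hc] at h1 h2 h3
  intro k
  refine Fin.addCases (fun i => ?_) (fun i => ?_) k
  · fin_cases i
    · exact h2.symm.trans ((hermForm_isHerm hF _).zero_left _)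
    · exact h1.symm.trans ((hermForm_isHerm hF _).zero_left _)
  · exact (congrFun h3 i).symm.trans ((hermForm_isHerm hF _).zero_left _)

theorem decomp (x : Vec) : x = hm x Fr.f • Fr.e + hm x Fr.e • Fr.f + Fr.emb (Fr.wco x) := by
  have hmem : x ∈ Submodule.span F (Set.range Fr.fam) := by
    rw [(Fr.linearIndependent_fam hF).span_eq_top_of_card_eq_finrank' (by
      rw [Fintype.card_fin, Module.finrank_fin_fun])]
    trivial
  obtain ⟨c, rfl⟩ := Submodule.mem_span_range_iff_exists_fun F |>.1 hmem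
  rw [Fr.fam_sum hF]
  obtain ⟨h1, h2, h3⟩ := Fr.comb_apply hF (c (Fin.castAdd d 0)) (c (Fin.castAdd d 1))
    fun i => c (Fin.natAdd 2 i)
  rw [h1, h2, h3]

theorem fam_gram (Fr' : UFrame d F q) (i j : Fin (2 + d)) :
    hm (Fr'.fam i) (Fr'.fam j) = hm (Fr.fam i) (Fr.fam j) := by
  refine Fin.addCases (fun i => ?_) (fun i => ?_) i <;>
    refine Fin.addCases (fun j => ?_) (fun j => ?_) j
  · fin_cases i <;> fin_cases j <;>
      simp [fam, Fr.ee, Fr'.ee, Fr.ff, Fr'.ff, Fr.ef, Fr'.ef, Fr.fe hF, Fr'.fe hF]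
  · fin_cases i <;> simp [fam, Fr.eb hF, Fr'.eb hF, Fr.fb hF, Fr'.fb hF]
  · fin_cases j <;> simp [fam, Fr.be, Fr'.be, Fr.bf, Fr'.bf]
  · simp [fam, Fr.bb, Fr'.bb]

/-- Witt for frames. -/
theorem exists_gu_uframe (Fr' : UFrame d F q) :
    ∃ g : Cfsg.GU (2 + d) F q, ∀ k, (g.1.1 : Matrix _ _ F) *ᵥ Fr.fam k = Fr'.fam k :=
  exists_gu_witt hF (Fr.linearIndependent_fam hF) (Fr'.linearIndependent_fam hF)
    (fun i j => Fr.fam_gram hF Fr' i j)

/-- An element of SU with given frame image and given coordinate matrix of determinant one. -/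
theorem exists_su_uframe (Fr' : UFrame d F q) (D : Matrix (Fin (2 + d)) (Fin (2 + d)) F)
    (hD : ∀ k, Fr'.fam k = ∑ l, D l k • Fr.fam l) (hdet : D.det = 1) :
    ∃ g : Cfsg.SU (2 + d) F q, ∀ k, suAct g (Fr.fam k) = Fr'.fam k := by
  obtain ⟨g, hg⟩ := Fr.exists_gu_uframe hF Fr'
  let P : Matrix (Fin (2 + d)) (Fin (2 + d)) F := Matrix.of fun i k => Fr.fam k i
  have hP : P.det ≠ 0 := by
    have : IsUnit P := Matrix.linearIndependent_cols_iff_isUnit.1 (Fr.linearIndependent_fam hF)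
    exact ((Matrix.isUnit_iff_isUnit_det P).1 this).ne_zero
  have hgP : g.1.1 * P = P * D := by
    ext i k
    have h1 := congrFun ((hg k).trans (hD k)) i
    simp only [Finset.sum_apply, Pi.smul_apply, smul_eq_mul] at h1
    rw [Matrix.mul_apply, Matrix.mul_apply]
    refine Eq.trans ?_ (h1.trans (Finset.sum_congr rfl fun l _ => mul_comm _ _))
    rfl
  have hd : g.1.1.det = 1 := by
    have h2 := congrArg Matrix.det hgP
    rw [Matrix.det_mul, Matrix.det_mul, hdet, mul_one] at h2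
    exact (mul_eq_right₀ hP).1 h2
  exact ⟨suOfUnitary g.1.1 g.2 hd, hg⟩

theorem fam_e : Fr.fam (Fin.castAdd d 0) = Fr.e := by simp [fam]

theorem fam_f : Fr.fam (Fin.castAdd d 1) = Fr.f := by simp [fam]

omit hF in
theorem fam_b (i : Fin d) : Fr.fam (Fin.natAdd 2 i) = Fr.b i := by simp [fam]

theorem e_ne_zero : Fr.e ≠ 0 := fun h => by
  have := Fr.ef
  rw [h, (hermForm_isHerm hF _).zero_left] at this
  exact zero_ne_one this

theorem f_ne_zero : Fr.f ≠ 0 := fun h => by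
  have := Fr.ef
  rw [h, (hermForm_isHerm hF _).zero_right hF] at this
  exact zero_ne_one this

omit hF [Fintype F] in
theorem suAct_sum (g : Cfsg.SU (2 + d) F q) {α : Type*} (s : Finset α) (x : α → Vec) :
    suAct g (∑ i ∈ s, x i) = ∑ i ∈ s, suAct g (x i) := Matrix.mulVec_sum _ _ _

omit hF [Fintype F] in
theorem emb_add (w w' : Fin d → F) : Fr.emb (w + w') = Fr.emb w + Fr.emb w' := by
  simp [emb, add_smul, Finset.sum_add_distrib]

omit hF [Fintype F] in
theorem emb_smul (c : F) (w : Fin d → F) : Fr.emb (c • w) = c • Fr.emb w := by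
  simp [emb, Finset.smul_sum, smul_smul]

omit hF [Fintype F] in
theorem emb_zero : Fr.emb 0 = 0 := by simp [emb]

/-! ### Coordinates on the radical -/

/-- The coordinate of an element of the radical orthogonal to the pair. -/
def wc (g : Cfsg.SU (2 + d) F q) : Fin d → F := Fr.wco (suAct g Fr.f)

/-- The central coordinate of an element of the radical. -/
def ec (g : Cfsg.SU (2 + d) F q) : F := hm (suAct g Fr.f) Fr.f

theorem act_f {g : Cfsg.SU (2 + d) F q} (hg : g ∈ qGroup (q := q) Fr.e) :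
    suAct g Fr.f = Fr.ec g • Fr.e + Fr.f + Fr.emb (Fr.wc g) := by
  have h1 : hm (suAct g Fr.f) Fr.e = 1 := by
    conv_lhs => rw [← hg.1]
    rw [suAct_herm, Fr.fe hF]
  conv_lhs => rw [Fr.decomp hF (suAct g Fr.f), h1, one_smul]
  rfl

theorem act_emb {g : Cfsg.SU (2 + d) F q} (hg : g ∈ qGroup (q := q) Fr.e) (w : Fin d → F) :
    suAct g (Fr.emb w) = Fr.emb w + (-hW w (Fr.wc g)) • Fr.e := by
  obtain ⟨c, hc⟩ := hg.2 _ (Fr.emb_e hF w)
  have H := hermForm_isHerm hF (2 + d)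
  have h1 := suAct_herm g (Fr.emb w) Fr.f
  rw [hc, Fr.act_f hF hg, Fr.emb_f hF] at h1
  simp only [H.add_left, H.add_right hF, H.smul_left, H.smul_right, Fr.ee, Fr.ef, Fr.emb_e hF,
    Fr.e_emb hF, Fr.emb_f hF, Fr.emb_herm hF] at h1
  rw [hc, show c = -hW w (Fr.wc g) by linear_combination h1]

theorem ec_wc_mul {g h : Cfsg.SU (2 + d) F q} (hg : g ∈ qGroup (q := q) Fr.e)
    (hh : h ∈ qGroup (q := q) Fr.e) :
    Fr.ec (g * h) = Fr.ec g + Fr.ec h - hW (Fr.wc h) (Fr.wc g) ∧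
      Fr.wc (g * h) = Fr.wc g + Fr.wc h := by
  have e1 : suAct (g * h) Fr.f
      = (Fr.ec g + Fr.ec h - hW (Fr.wc h) (Fr.wc g)) • Fr.e + (1 : F) • Fr.f
        + Fr.emb (Fr.wc g + Fr.wc h) := by
    rw [suAct_mul, Fr.act_f hF hh, suAct_add, suAct_add, suAct_smul, hg.1, Fr.act_f hF hg,
      Fr.act_emb hF hg, emb_add]
    module
  obtain ⟨-, h2, h3⟩ := Fr.comb_apply hF (Fr.ec g + Fr.ec h - hW (Fr.wc h) (Fr.wc g)) 1
    (Fr.wc g + Fr.wc h)
  rw [← e1] at h2 h3
  exact ⟨h2, h3⟩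

theorem qGroup_ext {g h : Cfsg.SU (2 + d) F q} (hg : g ∈ qGroup (q := q) Fr.e)
    (hh : h ∈ qGroup (q := q) Fr.e) (hw : Fr.wc g = Fr.wc h) (he : Fr.ec g = Fr.ec h) : g = h := by
  refine suAct_ext fun x => ?_
  rw [Fr.decomp hF x]
  simp only [suAct_add, suAct_smul, hg.1, hh.1, Fr.act_emb hF hg, Fr.act_emb hF hh,
    Fr.act_f hF hg, Fr.act_f hF hh, hw, he]

theorem exists_q_wc (w : Fin d → F) :
    ∃ g ∈ qGroup (q := q) Fr.e, Fr.wc g = w := by
  obtain ⟨a, ha⟩ := exists_eich_coeff hF (Fr.emb w)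
  refine ⟨eichler hF Fr.e (Fr.emb w) a Fr.ee (Fr.e_emb hF w) ha, ⟨?_, fun x hx =>
    ⟨-hm x (Fr.emb w), ?_⟩⟩, ?_⟩
  · rw [suAct_eichler, Fr.ee, Fr.e_emb hF]; simp
  · rw [suAct_eichler, hx]; simp [sub_eq_add_neg]
  · have e1 : suAct (eichler hF Fr.e (Fr.emb w) a Fr.ee (Fr.e_emb hF w) ha) Fr.f
        = a • Fr.e + (1 : F) • Fr.f + Fr.emb w := by
      rw [suAct_eichler, Fr.fe hF, Fr.f_emb hF]; module
    show Fr.wco _ = w
    rw [e1]
    exact (Fr.comb_apply hF _ _ _).2.2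

theorem transv_mem (a : F) (ha : a + a ^ q = 0) :
    suTransvection hF Fr.e Fr.ee a ha ∈ qGroup (q := q) Fr.e ∧
      Fr.wc (suTransvection hF Fr.e Fr.ee a ha) = 0 ∧
      Fr.ec (suTransvection hF Fr.e Fr.ee a ha) = a := by
  have e1 : suAct (suTransvection hF Fr.e Fr.ee a ha) Fr.f
      = a • Fr.e + (1 : F) • Fr.f + Fr.emb 0 := by
    rw [suAct_suTransvection, Fr.fe hF, emb_zero]; module
  obtain ⟨-, h2, h3⟩ := Fr.comb_apply hF a 1 0
  rw [← e1] at h2 h3
  exact ⟨⟨suTransvection_fix_self hF Fr.ee a ha, fun x hx => ⟨0, by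
    rw [suAct_suTransvection, hx, mul_zero]⟩⟩, h3, h2⟩

theorem ec_norm {g : Cfsg.SU (2 + d) F q} (hg : g ∈ qGroup (q := q) Fr.e) :
    Fr.ec g + Fr.ec g ^ q + hW (Fr.wc g) (Fr.wc g) = 0 := by
  have H := hermForm_isHerm hF (2 + d)
  have h1 := suAct_herm g Fr.f Fr.f
  rw [Fr.act_f hF hg, Fr.ff] at h1
  simp only [H.add_left, H.add_right hF, H.smul_left, H.smul_right, Fr.ee, Fr.ef, Fr.fe hF, Fr.ff,
    Fr.e_emb hF, Fr.f_emb hF, Fr.emb_e hF, Fr.emb_f hF, Fr.emb_herm hF] at h1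
  linear_combination h1

/-! ### The Levi elements -/

/-- `g` fixes both points of the pair, with scalar `l` on the first and matrix `G` on the complement. -/
def IsLev (g : Cfsg.SU (2 + d) F q) (l : F) (G : Matrix (Fin d) (Fin d) F) : Prop :=
  l ≠ 0 ∧ suAct g Fr.e = l • Fr.e ∧ suAct g Fr.f = (l ^ q)⁻¹ • Fr.f ∧
    ∀ w, suAct g (Fr.emb w) = Fr.emb (G *ᵥ w)

theorem isLev_conj {g : Cfsg.SU (2 + d) F q} {l : F} {G : Matrix (Fin d) (Fin d) F}
    (hg : Fr.IsLev g l G) {h : Cfsg.SU (2 + d) F q} (hh : h ∈ qGroup (q := q) Fr.e) :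
    g * h * g⁻¹ ∈ qGroup (q := q) Fr.e ∧ Fr.wc (g * h * g⁻¹) = l ^ q • (G *ᵥ Fr.wc h) ∧
      Fr.ec (g * h * g⁻¹) = l ^ (q + 1) * Fr.ec h := by
  obtain ⟨hl, he, hf, hw⟩ := hg
  have hgi : suAct g⁻¹ Fr.f = l ^ q • Fr.f := by
    have := congrArg (suAct g⁻¹) hf
    rw [suAct_inv_suAct, suAct_smul] at this
    conv_rhs => rw [this]
    rw [smul_inv_smul₀ (pow_ne_zero _ hl)]
  have e1 : suAct (g * h * g⁻¹) Fr.f = (l ^ (q + 1) * Fr.ec h) • Fr.e + (1 : F) • Fr.f
      + Fr.emb (l ^ q • (G *ᵥ Fr.wc h)) := by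
    rw [suAct_mul, suAct_mul, hgi, suAct_smul, Fr.act_f hF hh, suAct_smul, suAct_add, suAct_add,
      suAct_smul, he, hf, hw, smul_add, smul_add, smul_inv_smul₀ (pow_ne_zero _ hl), smul_smul,
      smul_smul, emb_smul, one_smul, pow_succ]
    congr 3
    ring
  obtain ⟨-, h2, h3⟩ := Fr.comb_apply hF (l ^ (q + 1) * Fr.ec h) 1 (l ^ q • (G *ᵥ Fr.wc h))
  rw [← e1] at h2 h3
  exact ⟨((Subgroup.mem_normalizer_iff.1 (le_normalizer_qGroup hl he)) h).1 hh, h3, h2⟩

theorem exists_isLev {g : Cfsg.SU (2 + d) F q} {a b : F} (he : suAct g Fr.e = a • Fr.e)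
    (hf : suAct g Fr.f = b • Fr.f) : ∃ (l : F) (G : Matrix (Fin d) (Fin d) F), Fr.IsLev g l G := by
  have H := hermForm_isHerm hF (2 + d)
  have hab := suAct_herm g Fr.e Fr.f
  rw [he, hf, H.smul_left, H.smul_right, Fr.ef, mul_one] at hab
  have ha : a ≠ 0 := left_ne_zero_of_mul_eq_one hab
  have hb : b = (a ^ q)⁻¹ := by
    rw [← inv_pow]
    have h1 := congrArg (fun z => z ^ q) hab
    simp only [mul_pow, pow_q_pow_q hF, one_pow] at h1
    rw [inv_pow]
    exact eq_inv_of_mul_eq_one_right h1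
  have horth : ∀ w, hm (suAct g (Fr.emb w)) Fr.e = 0 ∧ hm (suAct g (Fr.emb w)) Fr.f = 0 := by
    intro w
    have h1 := suAct_herm g (Fr.emb w) Fr.e
    have h2 := suAct_herm g (Fr.emb w) Fr.f
    rw [he, H.smul_right, Fr.emb_e hF] at h1
    rw [hf, H.smul_right, Fr.emb_f hF] at h2
    exact ⟨(mul_eq_zero.1 h1).resolve_left (pow_ne_zero _ ha),
      (mul_eq_zero.1 h2).resolve_left (pow_ne_zero _ (hb ▸ inv_ne_zero (pow_ne_zero _ ha)))⟩
  let φ : (Fin d → F) →ₗ[F] (Fin d → F) :=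
    { toFun := fun w => Fr.wco (suAct g (Fr.emb w))
      map_add' := fun w w' => by funext i; simp [wco, emb_add, suAct_add, H.add_left]
      map_smul' := fun c w => by funext i; simp [wco, emb_smul, suAct_smul, H.smul_left] }
  refine ⟨a, LinearMap.toMatrix' φ, ha, he, hb ▸ hf, fun w => ?_⟩
  rw [LinearMap.toMatrix'_mulVec]
  obtain ⟨h1, h2⟩ := horth w
  conv_lhs => rw [Fr.decomp hF (suAct g (Fr.emb w)), h1, h2, zero_smul, zero_smul, zero_add,
    zero_add]
  rfl

theorem exists_lev_diag {l : F} (hl : l ≠ 0) (μ : Fin d → F) (hμ : ∀ i, μ i ^ (q + 1) = 1)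
    (hdet : l * ∏ i, μ i = l ^ q) :
    ∃ g : Cfsg.SU (2 + d) F q, Fr.IsLev g l (Matrix.diagonal μ) := by
  have H := hermForm_isHerm hF (2 + d)
  have hlq : l ^ q ≠ 0 := pow_ne_zero _ hl
  let Fr' : UFrame d F q :=
    { e := l • Fr.e
      f := (l ^ q)⁻¹ • Fr.f
      b := fun i => μ i • Fr.b i
      ee := by rw [H.smul_left, H.smul_right, Fr.ee]; ring
      ff := by rw [H.smul_left, H.smul_right, Fr.ff]; ring
      ef := by
        rw [H.smul_left, H.smul_right, Fr.ef, mul_one, inv_pow, pow_q_pow_q hF, mul_inv_cancel₀ hl]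
      be := fun i => by rw [H.smul_left, H.smul_right, Fr.be]; ring
      bf := fun i => by rw [H.smul_left, H.smul_right, Fr.bf]; ring
      bb := fun i j => by
        rw [H.smul_left, H.smul_right, Fr.bb]
        rcases eq_or_ne i j with rfl | h
        · simp [← pow_succ', hμ i]
        · simp [h] }
  have hdiag : ∀ k, Fr'.fam k = (Fin.append ![l, (l ^ q)⁻¹] μ) k • Fr.fam k := by
    intro k
    refine Fin.addCases (fun i => ?_) (fun i => ?_) k
    · fin_cases i <;> simp [fam, Fr']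
    · simp [fam, Fr']
  obtain ⟨g, hg⟩ := Fr.exists_su_uframe hF Fr'
    (Matrix.diagonal (Fin.append ![l, (l ^ q)⁻¹] μ)) (fun k => by
      rw [hdiag, Finset.sum_eq_single k (fun b _ hb => by
        rw [Matrix.diagonal_apply_ne _ hb, zero_smul]) (by simp), Matrix.diagonal_apply_eq]) (by
      rw [Matrix.det_diagonal, Fin.prod_univ_add, Fin.prod_univ_two]
      simp only [Fin.append_left, Fin.append_right, Matrix.cons_val_zero, Matrix.cons_val_one]
      rw [mul_assoc, mul_comm (l ^ q)⁻¹, ← mul_assoc, hdet, mul_inv_cancel₀ hlq])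
  refine ⟨g, hl, ?_, ?_, fun w => ?_⟩
  · have := hg (Fin.castAdd d 0); rwa [Fr.fam_e hF, Fr'.fam_e hF] at this
  · have := hg (Fin.castAdd d 1); rwa [Fr.fam_f hF, Fr'.fam_f hF] at this
  · rw [emb, emb, suAct_sum]
    refine Finset.sum_congr rfl fun i _ => ?_
    have := hg (Fin.natAdd 2 i)
    rw [Fr.fam_b, Fr'.fam_b] at this
    rw [suAct_smul, this, Matrix.mulVec_diagonal, smul_smul, mul_comm]

theorem exists_lev_swap {i j : Fin d} (hij : i ≠ j) :
    ∃ (g : Cfsg.SU (2 + d) F q) (G : Matrix (Fin d) (Fin d) F), Fr.IsLev g 1 G ∧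
      G *ᵥ Pi.single i 1 = Pi.single j 1 ∧ G *ᵥ Pi.single j 1 = -Pi.single i 1 := by
  classical
  have H := hermForm_isHerm hF (2 + d)
  let s : Fin d → F := Pi.mulSingle j (-1)
  let π := Equiv.swap i j
  have hn1 : (-1 : F) * (-1) ^ q = 1 := by rw [neg_pow_q hF, one_pow]; ring
  let Fr' : UFrame d F q :=
    { e := Fr.e
      f := Fr.f
      b := fun k => s k • Fr.b (π k)
      ee := Fr.ee
      ff := Fr.ff
      ef := Fr.ef
      be := fun k => by rw [H.smul_left, Fr.be, mul_zero]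
      bf := fun k => by rw [H.smul_left, Fr.bf, mul_zero]
      bb := fun k l => by
        rw [H.smul_left, H.smul_right, Fr.bb]
        rcases eq_or_ne k l with rfl | h
        · rcases eq_or_ne k j with rfl | hk <;> simp [s, *]
        · simp [h] }
  let τ : Equiv.Perm (Fin (2 + d)) := Equiv.swap (Fin.natAdd 2 i) (Fin.natAdd 2 j)
  let S : Fin (2 + d) → F := Pi.mulSingle (Fin.natAdd 2 j) (-1)
  have hτ : ∀ k, Fr'.fam k = S k • Fr.fam (τ k) := by
    intro k
    refine Fin.addCases (fun a => ?_) (fun a => ?_) k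
    · have h1 : Fin.castAdd d a ≠ Fin.natAdd 2 i ∧ Fin.castAdd d a ≠ Fin.natAdd 2 j := by
        constructor <;> intro h <;> have := congrArg Fin.val h <;> simp at this <;> omega
      rw [show τ (Fin.castAdd d a) = Fin.castAdd d a from Equiv.swap_apply_of_ne_of_ne h1.1 h1.2,
        show S (Fin.castAdd d a) = 1 from Pi.mulSingle_eq_of_ne h1.2 _, one_smul]
      simp [fam, Fr']
    · have hne : Function.Injective (Fin.natAdd 2 : Fin d → Fin (2 + d)) := fun x y h =>
        Fin.ext (by simpa using congrArg Fin.val h)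
      rw [show τ (Fin.natAdd 2 a) = Fin.natAdd 2 (π a) from (hne.swap_apply i j a),
        show S (Fin.natAdd 2 a) = s a from by
          rcases eq_or_ne a j with rfl | ha
          · simp [S, s]
          · simp [S, s, ha, hne.ne ha]]
      simp [fam, Fr']
  obtain ⟨g, hg⟩ := Fr.exists_su_uframe hF Fr'
    ((τ⁻¹ : Equiv.Perm (Fin (2 + d))).permMatrix F * Matrix.diagonal S) (fun k => by
      rw [hτ, Finset.sum_eq_single (τ k) (fun b _ hb => by
        rw [Matrix.mul_diagonal, Equiv.Perm.permMatrix]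
        simp [PEquiv.toMatrix, hb, τ, Equiv.swap_apply_eq_iff]) (by simp)]
      rw [Matrix.mul_diagonal, Equiv.Perm.permMatrix]
      simp [PEquiv.toMatrix, τ]) (by
      have h2 : Fin.natAdd 2 i ≠ Fin.natAdd 2 j := fun h => hij (Fin.ext (by
        simpa using congrArg Fin.val h))
      rw [Matrix.det_mul, Matrix.det_diagonal, Finset.prod_pi_mulSingle',
        Matrix.det_permutation, Equiv.Perm.sign_inv, Equiv.Perm.sign_swap h2]
      simp)
  let L : (Fin d → F) →ₗ[F] (Fin d → F) := (Pi.basisFun F (Fin d)).constr F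
    fun k => s k • Pi.single (π k) 1
  refine ⟨g, LinearMap.toMatrix' L, ⟨one_ne_zero, ?_, ?_, fun w => ?_⟩, ?_, ?_⟩
  · have := hg (Fin.castAdd d 0); rw [Fr.fam_e hF, Fr'.fam_e hF] at this; rw [one_smul]; exact this
  · have := hg (Fin.castAdd d 1); rw [Fr.fam_f hF, Fr'.fam_f hF] at this
    rw [one_pow, inv_one, one_smul]; exact this
  · rw [LinearMap.toMatrix'_mulVec]
    have hb : ∀ k, suAct g (Fr.b k) = Fr.emb (L (Pi.single k 1)) := fun k => by
      have := hg (Fin.natAdd 2 k)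
      rw [Fr.fam_b, Fr'.fam_b] at this
      rw [this, ← Pi.basisFun_apply F, Module.Basis.constr_basis, emb_smul]
      simp [emb, Pi.single_apply]
      rfl
    have hlin : Fr.emb (L w) = ∑ k, w k • Fr.emb (L (Pi.single k 1)) := by
      conv_lhs => rw [pi_eq_sum_univ' w, map_sum]
      let emL : (Fin d → F) →ₗ[F] Vec :=
        { toFun := Fr.emb, map_add' := fun x y => Fr.emb_add x y,
          map_smul' := fun c x => Fr.emb_smul c x }
      rw [show Fr.emb (∑ k, L (w k • Pi.single k 1)) = emL (∑ k, L (w k • Pi.single k 1)) from rfl,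
        map_sum]
      exact Finset.sum_congr rfl fun k _ => by rw [map_smul, map_smul]; rfl
    rw [hlin, emb, suAct_sum]
    exact Finset.sum_congr rfl fun k _ => by rw [suAct_smul, hb]
  · rw [LinearMap.toMatrix'_mulVec, ← Pi.basisFun_apply F, Module.Basis.constr_basis]
    simp [s, π, hij]
  · rw [LinearMap.toMatrix'_mulVec, ← Pi.basisFun_apply F, Module.Basis.constr_basis]
    simp [s, π]

/-! ### The radical is the largest normal p-subgroup of the point stabiliser -/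

/-- The point of the first frame vector. -/
noncomputable def pe : IsoLine (2 + d) F q := IsoLine.mk Fr.e (Fr.e_ne_zero hF) Fr.ee

/-- The point of the second frame vector. -/
noncomputable def pf : IsoLine (2 + d) F q := IsoLine.mk Fr.f (Fr.f_ne_zero hF) Fr.ff

theorem smul_pe_iff (g : Cfsg.SU (2 + d) F q) :
    g • Fr.pe hF = Fr.pe hF ↔ ∃ c : F, c • Fr.e = suAct g Fr.e := by
  rw [pe, IsoLine.smul_mk, IsoLine.mk_eq_iff]

theorem center_smul (hd : 1 ≤ d) {z : Cfsg.SU (2 + d) F q} (hz : z ∈ Subgroup.center _)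
    (p : IsoLine (2 + d) F q) : z • p = p := by
  obtain ⟨v, hv, hv0, rfl⟩ := p.exists_mk
  obtain ⟨c, hc⟩ := (mem_center_SU_iff hF (by omega) z).1 hz
  rw [IsoLine.smul_mk, IsoLine.mk_eq_iff]
  exact ⟨c, by rw [suAct, hc]; ext i; simp [Matrix.mulVec_diagonal]⟩

variable {p : ℕ} [Fact p.Prime] [CharP F p]

theorem le_qbar (hd : 1 ≤ d) (N : Subgroup (Cfsg.PSU (2 + d) F q)) (hN : IsPGroup p N)
    (hfix : ∀ g, cl (2 + d) F q g ∈ N → g • Fr.pe hF = Fr.pe hF)
    (hnorm : ∀ g, g • Fr.pe hF = Fr.pe hF → ∀ x ∈ N,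
      cl (2 + d) F q g * x * (cl (2 + d) F q g)⁻¹ ∈ N) :
    N ≤ (qGroup (q := q) Fr.e).map (cl (2 + d) F q) := by
  have H := hermForm_isHerm hF (2 + d)
  obtain ⟨P, hP, hmap, hmax⟩ := lift_pgroup (Subgroup.center (Cfsg.SU (2 + d) F q)) le_rfl N hN
  have hPfix : ∀ g ∈ P, suAct g Fr.e = Fr.e := by
    intro g hg
    obtain ⟨c, hc⟩ := (Fr.smul_pe_iff hF g).1 (hfix g (hmap ▸ ⟨g, hg, rfl⟩))
    obtain ⟨k, hk⟩ := hP ⟨g, hg⟩
    have hpow : ∀ m : ℕ, suAct (g ^ m) Fr.e = c ^ m • Fr.e := by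
      intro m
      induction m with
      | zero => simp
      | succ m ih => rw [pow_succ', suAct_mul, ih, suAct_smul, ← hc, smul_smul, pow_succ]
    have h1 := hpow (p ^ k)
    rw [show g ^ p ^ k = 1 from congrArg Subtype.val hk, suAct_one] at h1
    have h2 : c ^ p ^ k = 1 :=
      (smul_left_injective F (Fr.e_ne_zero hF) ((one_smul F Fr.e).trans h1)).symm
    have h3 : c = 1 := iterateFrobenius_inj F p k (by
      show c ^ p ^ k = (1 : F) ^ p ^ k
      rw [h2, one_pow])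
    rw [← hc, h3, one_smul]
  have hPe : ∀ g ∈ P, ∀ w, ∃ c : F, suAct g (Fr.emb w)
      = Fr.emb (Fr.wco (suAct g (Fr.emb w))) + c • Fr.e := by
    intro g hg w
    refine ⟨hm (suAct g (Fr.emb w)) Fr.f, ?_⟩
    have h1 : hm (suAct g (Fr.emb w)) Fr.e = 0 := by
      conv_lhs => rw [← hPfix g hg]
      rw [suAct_herm, Fr.emb_e hF]
    conv_lhs => rw [Fr.decomp hF (suAct g (Fr.emb w)), h1, zero_smul, add_zero]
    exact add_comm _ _
  letI : MulAction P (Fin d → F) :=
    { smul := fun g w => Fr.wco (suAct g.1 (Fr.emb w))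
      one_smul := fun w => by
        show Fr.wco (suAct 1 (Fr.emb w)) = w
        rw [suAct_one, Fr.wco_emb hF]
      mul_smul := fun g h w => by
        show Fr.wco (suAct (g.1 * h.1) (Fr.emb w))
          = Fr.wco (suAct g.1 (Fr.emb (Fr.wco (suAct h.1 (Fr.emb w)))))
        obtain ⟨c, hc⟩ := hPe h.1 h.2 w
        rw [suAct_mul]
        conv_lhs => rw [hc, suAct_add, suAct_smul, hPfix g.1 g.2]
        funext i
        simp [wco, H.add_left, H.smul_left, Fr.eb hF] }
  have hsmul : ∀ (g : P) (w : Fin d → F), g • w = Fr.wco (suAct g.1 (Fr.emb w)) := fun g w => rfl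
  let W₀ : Submodule F (Fin d → F) :=
    { carrier := {w | ∀ g : P, g • w = w}
      add_mem' := fun {x y} hx hy g => by
        have : g • (x + y) = g • x + g • y := by
          simp only [hsmul]; funext i; simp [wco, emb_add, suAct_add, H.add_left]
        rw [this, hx g, hy g]
      zero_mem' := fun g => by
        rw [hsmul, emb_zero, suAct_zero]; funext i; simp [wco, H.zero_left]
      smul_mem' := fun c x hx g => by
        have : g • (c • x) = c • (g • x) := by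
          simp only [hsmul]; funext i; simp [wco, emb_smul, suAct_smul, H.smul_left]
        rw [this, hx g] }
  have hstab : ∀ (g : Cfsg.SU (2 + d) F q) (l : F) (G : Matrix (Fin d) (Fin d) F),
      Fr.IsLev g l G → ∀ w ∈ W₀, G *ᵥ w ∈ W₀ := by
    intro g l G hg w hw h
    obtain ⟨hl, he, hfl, hGw⟩ := hg
    have hgfix : g⁻¹ • Fr.pe hF = Fr.pe hF :=
      inv_smul_eq_iff.2 ((Fr.smul_pe_iff hF g).2 ⟨l, he.symm⟩).symm
    have hh' : g⁻¹ * h.1 * g ∈ P := by
      have hle : P.map (MulAut.conj g⁻¹).toMonoidHom ≤ N.comap (QuotientGroup.mk' _) := by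
        rintro _ ⟨y, hy, rfl⟩
        rw [Subgroup.mem_comap]
        show cl (2 + d) F q (g⁻¹ * y * g⁻¹⁻¹) ∈ N
        rw [map_mul, map_mul, map_inv (cl (2 + d) F q) g⁻¹]
        exact hnorm _ hgfix _ (hmap ▸ ⟨y, hy, rfl⟩)
      exact hmax _ (hP.map _) hle ⟨h.1, h.2, by simp⟩
    have hw' : Fr.wco (suAct (g⁻¹ * h.1 * g) (Fr.emb w)) = w := hw ⟨_, hh'⟩
    obtain ⟨c, hc⟩ := hPe _ hh' w
    rw [hw'] at hc
    have h1 : suAct h.1 (suAct g (Fr.emb w)) = suAct g (Fr.emb w + c • Fr.e) := by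
      rw [← hc, suAct_mul, suAct_mul, suAct_suAct_inv]
    rw [suAct_add, suAct_smul, he, hGw] at h1
    rw [hsmul, h1]
    funext i
    have h2 : hm (Fr.emb (G *ᵥ w)) (Fr.b i) = (G *ᵥ w) i := congrFun (Fr.wco_emb hF _) i
    simp [wco, H.add_left, H.smul_left, Fr.eb hF, h2]
  have hne : ∃ w ∈ W₀, w ≠ 0 := by
    obtain ⟨k, -, hk⟩ := FiniteField.card F p
    have hdvd : p ∣ Nat.card (Fin d → F) := by
      rw [Nat.card_fun, Nat.card_eq_fintype_card, hk, Nat.card_fin, ← pow_mul]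
      exact dvd_pow_self p (Nat.mul_ne_zero k.ne_zero (by omega))
    obtain ⟨w, hw, hw0⟩ := hP.exists_fixed_point_of_prime_dvd_card_of_fixed_point (Fin d → F) hdvd
      (a := 0) (fun g => W₀.zero_mem g)
    exact ⟨w, fun g => hw g, hw0.symm⟩
  have hsingle : ∀ i, Pi.single i 1 ∈ W₀ := by
    obtain ⟨w, hw, hw0⟩ := hne
    obtain ⟨j, hj⟩ := Function.ne_iff.1 hw0
    obtain ⟨ζ, hζ, hord⟩ := exists_norm_one_gen hF
    have hζ1 : ζ ≠ 1 := fun h => by
      rw [h, orderOf_one] at hord; have := two_le_q hF; omega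
    obtain ⟨l, hl, hlq⟩ := exists_quot_eq hF (inv_pow_succ ζ hζ)
    have hζ0 : ζ ≠ 0 := fun h => by simp [h] at hζ
    obtain ⟨g, hg⟩ := Fr.exists_lev_diag hF hl (Pi.mulSingle j ζ) (fun i => by
      rcases eq_or_ne i j with rfl | h
      · simpa using hζ
      · simp [h]) (by
      rw [Finset.prod_pi_mulSingle']
      simp only [Finset.mem_univ, if_true]
      conv_lhs => rw [hlq]
      rw [mul_comm, ← mul_assoc, mul_inv_cancel₀ hζ0, one_mul])
    have hjmem : Pi.single j 1 ∈ W₀ := by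
      have h1 := W₀.sub_mem (hstab g l _ hg w hw) hw
      have h2 : Matrix.diagonal (Pi.mulSingle j ζ) *ᵥ w - w = ((ζ - 1) * w j) • Pi.single j 1 := by
        funext i
        rw [Pi.sub_apply, Matrix.mulVec_diagonal]
        rcases eq_or_ne i j with rfl | h
        · simp [sub_mul]
        · simp [h]
      rw [h2] at h1
      exact (W₀.smul_mem_iff (mul_ne_zero (sub_ne_zero.2 hζ1) (by simpa using hj))).1 h1
    intro i
    rcases eq_or_ne i j with rfl | hij
    · exact hjmem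
    · obtain ⟨g, G, hg, hG, -⟩ := Fr.exists_lev_swap hF hij.symm
      exact hG ▸ hstab g 1 G hg _ hjmem
  have hall : ∀ w, w ∈ W₀ := fun w => by
    rw [pi_eq_sum_univ' w]
    exact W₀.sum_mem fun i _ => W₀.smul_mem _ (hsingle i)
  rintro x hx
  obtain ⟨g, hg, rfl⟩ : x ∈ P.map (QuotientGroup.mk' _) := hmap.symm ▸ hx
  refine ⟨g, ⟨hPfix g hg, fun x hx => ?_⟩, rfl⟩
  obtain ⟨c, hc⟩ := hPe g hg (Fr.wco x)
  rw [show Fr.wco (suAct g (Fr.emb (Fr.wco x))) = Fr.wco x from hall (Fr.wco x) ⟨g, hg⟩] at hc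
  refine ⟨c, ?_⟩
  have hxd : x = hm x Fr.f • Fr.e + Fr.emb (Fr.wco x) := by
    conv_lhs => rw [Fr.decomp hF x, hx, zero_smul, add_zero]
  conv_lhs => rw [hxd, suAct_add, suAct_smul, hPfix g hg, hc]
  conv_rhs => rw [hxd]
  abel

omit [Fact p.Prime] [CharP F p] in
/-- An automorphism fixing the point preserves the radical. -/
theorem map_qbar (hd : 1 ≤ d) (α : MulAut (Cfsg.PSU (2 + d) F q))
    (hα : piMap hF (by omega) α (Fr.pe hF) = Fr.pe hF) :
    ((qGroup (q := q) Fr.e).map (cl (2 + d) F q)).map α.toMonoidHom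
      ≤ (qGroup (q := q) Fr.e).map (cl (2 + d) F q) := by
  obtain ⟨p, hchar⟩ := CharP.exists F
  have : Fact p.Prime := ⟨CharP.char_is_prime F p⟩
  have hn : 3 ≤ 2 + d := by omega
  have hstab : ∀ g h, cl (2 + d) F q h = α (cl (2 + d) F q g) →
      (h • Fr.pe hF = Fr.pe hF ↔ g • Fr.pe hF = Fr.pe hF) := by
    intro g h hgh
    have h1 := piMap_smul hF hn α hgh (Fr.pe hF)
    rw [hα] at h1
    constructor
    · intro h2; exact piMap_inj hF hn α (by rw [h1, h2, hα])
    · intro h2; rw [← h1, h2, hα]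
  refine Fr.le_qbar (p := p) hF hd _
    (((isPGroup_qGroup hF (Fr.e_ne_zero hF) Fr.ee).map _).map _) ?_ ?_
  · rintro h ⟨x, ⟨g, hg, rfl⟩, hx⟩
    exact (hstab g h hx.symm).2 ((Fr.smul_pe_iff hF g).2 ⟨1, by rw [one_smul, hg.1]⟩)
  · rintro h hh _ ⟨x, ⟨g, hg, rfl⟩, rfl⟩
    obtain ⟨k, hk⟩ := cl_surjective (α⁻¹ (cl (2 + d) F q h))
    have hkh : cl (2 + d) F q h = α (cl (2 + d) F q k) := by
      rw [hk]; exact (α.apply_symm_apply _).symm
    obtain ⟨c, hc⟩ := (Fr.smul_pe_iff hF k).1 ((hstab k h hkh).1 hh)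
    have hc0 : c ≠ 0 := fun h0 => suAct_ne_zero k (Fr.e_ne_zero hF) (by rw [← hc, h0, zero_smul])
    refine ⟨cl (2 + d) F q (k * g * k⁻¹), ⟨_, ((Subgroup.mem_normalizer_iff.1
      (le_normalizer_qGroup hc0 hc.symm)) g).1 hg, rfl⟩, ?_⟩
    show α _ = _
    simp only [map_mul, map_inv, hkh]
    rfl

end UFrame

theorem exists_uframe [Fintype F] (hF : Fintype.card F = q ^ 2) :
    Nonempty (UFrame d F q) := by
  have H := hermForm_isHerm hF (2 + d)
  obtain ⟨ε, hε⟩ := exists_eps hF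
  obtain ⟨l, hl⟩ := exists_trace_eq hF (c := (-1 : F)) (by rw [neg_pow_q hF, one_pow])
  have ho := (single_orthonormal hF (2 + d)).apply
  let b0 : Vec := Pi.single (Fin.castAdd d 0) 1
  let b1 : Vec := Pi.single (Fin.castAdd d 1) 1
  let r := b0 + ε • b1
  have h00 : hm b0 b0 = 1 := by rw [ho, if_pos rfl]
  have h11 : hm b1 b1 = 1 := by rw [ho, if_pos rfl]
  have hne : Fin.castAdd d (0 : Fin 2) ≠ Fin.castAdd d 1 := fun h => by
    simpa using congrArg Fin.val h
  have h01 : hm b0 b1 = 0 := by rw [ho, if_neg hne]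
  have h10 : hm b1 b0 = 0 := by rw [ho, if_neg hne.symm]
  have hr : hm r r = 0 := by
    simp only [r, H.add_left, H.add_right hF, H.smul_left, H.smul_right, h00, h11, h01, h10]
    linear_combination hε
  have hrb : hm r b0 = 1 := by simp [r, H.add_left, H.smul_left, h00, h10]
  have hbr : hm b0 r = 1 := by rw [H.conj_symm r b0, hrb, one_pow]
  have hsep : ∀ (a : Fin 2) (i : Fin d), Fin.natAdd 2 i ≠ Fin.castAdd d a := fun a i h => by
    have := congrArg Fin.val h; simp at this; omega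
  refine ⟨⟨r, b0 + l • r, fun i => Pi.single (Fin.natAdd 2 i) 1, hr, ?_, ?_, fun i => ?_,
    fun i => ?_, fun i j => ?_⟩⟩
  · simp only [H.add_left, H.add_right hF, H.smul_left, H.smul_right, hr, hrb, hbr, h00]
    linear_combination hl
  · simp [H.add_right hF, H.smul_right, hr, hrb]
  · simp only [r, H.add_right hF, H.smul_right, b0, b1, ho, if_neg (hsep _ i)]; ring
  · simp only [r, H.add_right hF, H.smul_right, b0, b1, ho, if_neg (hsep _ i)]; ring
  · rw [ho]
    congr 1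
    exact propext ⟨fun h => Fin.ext (by simpa using congrArg Fin.val h), fun h => by rw [h]⟩

end Cfsg.Agent.AutPSU
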