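import Cfsg.Agent.Lib.AutPSU.Coord
import Cfsg.Agent.Lib.FieldAut.Unitary

/-!
# Every automorphism of `PSU_n(q)` is semilinear

* `twistAut`, `piMap_twistAut` : automorphisms induced by semilinear isometries
* `exists_factor` : `α = (conjugation by a unitary matrix) ∘ (field automorphism)`
* `gammaPSU_eq_top`
-/

set_option autoImplicit false

namespace Cfsg.Agent.AutPSU

open scoped Matrix MatrixGroups
open Cfsg.Agent.Unitary
open Cfsg.Agent.FieldAut (suMat suMat_coe suMat_injective suMat_mem conj_mem_suMat keep_gal_su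
  galGL galGL_apply_coe indAut indAut_mk liftAut mat_liftAut isInd_iff keep)

variable {F : Type*} [Field F] {q n : ℕ}

/-- The automorphism induced by `x ↦ M σ(x)`. -/
noncomputable def twistAut {M : GL (Fin n) F} (hM : M ∈ Cfsg.GU n F q) (σ : F ≃+* F) :
    MulAut (Cfsg.PSU n F q) :=
  indAut suMat_injective ⟨MulAut.conj M * galGL σ, mul_mem (conj_mem_suMat hM) (keep_gal_su σ)⟩

/-- The semilinear map. -/
def twistVec (M : GL (Fin n) F) (σ : F ≃+* F) (x : Fin n → F) : Fin n → F := M.1 *ᵥ (σ ∘ x)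

theorem twistVec_add (M : GL (Fin n) F) (σ : F ≃+* F) (x y : Fin n → F) :
    twistVec M σ (x + y) = twistVec M σ x + twistVec M σ y := by
  rw [twistVec, twistVec, twistVec, ← Matrix.mulVec_add]
  congr 1
  funext i
  simp

theorem twistVec_smul (M : GL (Fin n) F) (σ : F ≃+* F) (c : F) (x : Fin n → F) :
    twistVec M σ (c • x) = σ c • twistVec M σ x := by
  rw [twistVec, twistVec, ← Matrix.mulVec_smul]
  congr 1
  funext i
  simp

theorem twistVec_sum (M : GL (Fin n) F) (σ : F ≃+* F) {ι : Type*} (s : Finset ι)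
    (x : ι → Fin n → F) : twistVec M σ (∑ i ∈ s, x i) = ∑ i ∈ s, twistVec M σ (x i) := by
  rw [twistVec, show (σ ∘ ∑ i ∈ s, x i) = ∑ i ∈ s, σ ∘ x i by funext j; simp [Finset.sum_apply],
    Matrix.mulVec_sum]
  rfl

theorem herm_comp (σ : F ≃+* F) (x y : Fin n → F) :
    Cfsg.hermForm n F q (σ ∘ x) (σ ∘ y) = σ (Cfsg.hermForm n F q x y) := by
  simp [Cfsg.hermForm]

theorem twistVec_surjective (M : GL (Fin n) F) (σ : F ≃+* F) (x : Fin n → F) :
    ∃ y, twistVec M σ y = x := by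
  refine ⟨σ.symm ∘ ((M⁻¹).1 *ᵥ x), ?_⟩
  have h : (σ ∘ (σ.symm ∘ ((M⁻¹).1 *ᵥ x))) = (M⁻¹).1 *ᵥ x := by funext i; simp
  rw [twistVec, h, Matrix.mulVec_mulVec, ← Units.val_mul, mul_inv_cancel, Units.val_one,
    Matrix.one_mulVec]

theorem twist_cl {M : GL (Fin n) F} (hM : M ∈ Cfsg.GU n F q) (σ : F ≃+* F) (g : Cfsg.SU n F q) :
    ∃ g', cl n F q g' = twistAut hM σ (cl n F q g) ∧
      ∀ x, suAct g' (twistVec M σ x) = twistVec M σ (suAct g x) := by
  set ψ : keep (suMat n F q) :=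
    ⟨MulAut.conj M * galGL σ, mul_mem (conj_mem_suMat hM) (keep_gal_su σ)⟩ with hψ
  refine ⟨liftAut suMat_injective ψ g, (indAut_mk suMat_injective ψ g).symm, fun x => ?_⟩
  have h := mat_liftAut suMat_injective ψ g
  simp only [hψ, MulAut.mul_apply, MulAut.conj_apply] at h
  have hmv : ∀ (A : GL (Fin n) F) (w : Fin n → F),
      (galGL σ A).1 *ᵥ (σ ∘ w) = σ ∘ (A.1 *ᵥ w) := fun A w => by
    funext i
    rw [galGL_apply_coe]
    simp [Matrix.mulVec, dotProduct]
  have h' := congrArg Units.val h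
  rw [suMat_coe] at h'
  show (liftAut suMat_injective ψ g).1.1 *ᵥ _ = _
  rw [h', Units.val_mul, Units.val_mul, twistVec, twistVec, ← Matrix.mulVec_mulVec,
    ← Matrix.mulVec_mulVec, Matrix.mulVec_mulVec (σ ∘ x), ← Units.val_mul, inv_mul_cancel,
    Units.val_one, Matrix.one_mulVec, hmv, suMat_coe]
  rfl

theorem twistAut_eq_mul {M : GL (Fin n) F} (hM : M ∈ Cfsg.GU n F q) (σ : F ≃+* F) :
    twistAut hM σ = indAut suMat_injective ⟨MulAut.conj M, conj_mem_suMat hM⟩ *
      indAut suMat_injective ⟨galGL σ, keep_gal_su σ⟩ := by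
  rw [twistAut, ← map_mul]
  exact congrArg _ (Subtype.ext rfl)

theorem conj_cl (g : Cfsg.SU n F q) : MulAut.conj (cl n F q g) =
    indAut suMat_injective ⟨MulAut.conj (suMat n F q g), conj_mem_suMat (suMat_mem g)⟩ := by
  refine (isInd_iff suMat_injective _).1 fun h h' hh => ?_
  rw [MulAut.conj_apply, ← map_inv, ← map_mul] at hh
  rw [show h' = g * h * g⁻¹ from suMat_injective (by rw [hh, ← map_mul]), MulAut.conj_apply]
  rfl

variable [Fintype F]

theorem twistVec_herm {M : GL (Fin n) F} (hM : M ∈ Cfsg.GU n F q) (σ : F ≃+* F) (x y : Fin n → F) :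
    Cfsg.hermForm n F q (twistVec M σ x) (twistVec M σ y) = σ (Cfsg.hermForm n F q x y) := by
  rw [twistVec, twistVec, (mem_GU_iff M).1 hM, herm_comp]

theorem twistVec_ne_zero {M : GL (Fin n) F} (σ : F ≃+* F) {v : Fin n → F} (hv : v ≠ 0) :
    twistVec M σ v ≠ 0 := by
  intro h
  apply hv
  have h1 := congrArg (fun x => (M⁻¹).1 *ᵥ x) h
  simp only [twistVec, Matrix.mulVec_mulVec, ← Units.val_mul, inv_mul_cancel, Units.val_one,
    Matrix.one_mulVec, Matrix.mulVec_zero] at h1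
  funext i
  simpa using congrFun h1 i

theorem piMap_twistAut (hF : Fintype.card F = q ^ 2) (hn : 3 ≤ n) {M : GL (Fin n) F}
    (hM : M ∈ Cfsg.GU n F q) (σ : F ≃+* F) {v : Fin n → F} (hv : v ≠ 0)
    (hv0 : Cfsg.hermForm n F q v v = 0) :
    piMap hF hn (twistAut hM σ) (IsoLine.mk v hv hv0)
      = IsoLine.mk (twistVec M σ v) (twistVec_ne_zero σ hv)
          (by rw [twistVec_herm hM, hv0, map_zero]) := by
  obtain ⟨δ, hδ0, hδ⟩ := exists_skew hF
  have hδ' : δ + δ ^ q = 0 := by rw [hδ, add_neg_cancel]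
  have hσδ : σ δ + σ δ ^ q = 0 := by rw [← map_pow, ← map_add, hδ', map_zero]
  refine piMap_eq_of hF hn (mem_rootQ_self hF hv hv0 hδ')
    (cl_suTransvection_ne_one hF (by omega) hv hv0 hδ' hδ0) ?_
  obtain ⟨g', he, hact⟩ := twist_cl hM σ (suTransvection hF v hv0 δ hδ')
  rw [← he]
  refine (mem_rootQ_mk hF _ _).2 ⟨σ δ, hσδ, congrArg _ (suAct_ext fun x => ?_)⟩
  obtain ⟨y, rfl⟩ := twistVec_surjective M σ x
  rw [hact, suAct_suTransvection, suAct_suTransvection, twistVec_add, twistVec_smul, map_mul,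
    twistVec_herm hM]

theorem piMap_conj (hF : Fintype.card F = q ^ 2) (hn : 3 ≤ n) (g : Cfsg.SU n F q)
    (p : IsoLine n F q) : piMap hF hn (MulAut.conj (cl n F q g)) p = g • p := by
  obtain ⟨x, hx, hx1⟩ := rootQ_ne_bot hF hn p
  exact piMap_eq_of hF hn hx hx1 (rootQ_smul hF g p hx)

/-- Every automorphism is a unitary conjugation times a field automorphism. -/
theorem exists_factor (hF : Fintype.card F = q ^ 2) (hn : 3 ≤ n) (hs : ¬(n = 3 ∧ q = 2))
    (α : MulAut (Cfsg.PSU n F q)) :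
    ∃ (X : GL (Fin n) F) (hX : X ∈ Cfsg.GU n F q) (σ : F ≃+* F), α = twistAut hX σ := by
  classical
  obtain ⟨d, rfl⟩ : ∃ d, n = 2 + d := ⟨n - 2, by omega⟩
  have hd : 1 ≤ d := by omega
  have hs' : ¬(d = 1 ∧ q = 2) := fun h => hs ⟨by omega, h.2⟩
  obtain ⟨Fr⟩ := exists_uframe (d := d) hF
  have H := hermForm_isHerm hF (2 + d)
  -- move the images of the two frame points back
  obtain ⟨u, hu, hu0, hπe⟩ := (piMap hF hn α (Fr.pe hF)).exists_mk
  obtain ⟨v, hv, hv0, hπf⟩ := (piMap hF hn α (Fr.pf hF)).exists_mk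
  have huv : Cfsg.hermForm (2 + d) F q u v ≠ 0 := fun h => by
    have := (piMap_orth hF hn α (Fr.pe hF) (Fr.pf hF)).1 (by rw [hπe, hπf]; exact (orth_mk hF).2 h)
    rw [UFrame.pe, UFrame.pf, orth_mk hF, Fr.ef] at this
    exact one_ne_zero this
  set c := Cfsg.hermForm (2 + d) F q u v
  obtain ⟨g, hgu, hgv⟩ := su_transitive_hyperbolic hF hn (v := c⁻¹ • u) (w := v)
    (by rw [H.smul_left, H.smul_right, hu0, mul_zero, mul_zero]) hv0
    (by rw [H.smul_left, inv_mul_cancel₀ huv]) Fr.ee Fr.ff Fr.ef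
  set α1 := MulAut.conj (cl (2 + d) F q g) * α with hα1
  have he1 : piMap hF (by omega) α1 (Fr.pe hF) = Fr.pe hF := by
    rw [hα1, piMap_mul, piMap_conj, hπe, IsoLine.smul_mk, UFrame.pe, IsoLine.mk_eq_iff]
    have e : suAct g u = c • Fr.e := by
      rw [← hgu, suAct_smul, smul_inv_smul₀ huv]
    exact ⟨c, e.symm⟩
  have hf1 : piMap hF (by omega) α1 (Fr.pf hF) = Fr.pf hF := by
    rw [hα1, piMap_mul, piMap_conj, hπf, IsoLine.smul_mk, UFrame.pf, IsoLine.mk_eq_iff]
    exact ⟨1, by rw [one_smul, hgv]⟩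
  -- the coordinates
  obtain ⟨A, hA⟩ := Fr.exists_coord_equiv hF hd α1 he1
  obtain ⟨σ, hσ⟩ := Fr.coord_semilinear hF hd α1 he1 hf1 hs' hA
  obtain ⟨k, hk0, hkq, hk⟩ := Fr.coord_herm hF hd α1 he1 hA hσ
  obtain ⟨s, hsk⟩ := exists_norm_eq hF (c := k⁻¹) (by rw [inv_pow, hkq])
  have hs0 : s ≠ 0 := fun h => inv_ne_zero hk0 (by rw [← hsk, h, zero_pow (by omega)])
  have hsq : s ^ q ≠ 0 := pow_ne_zero _ hs0
  let F1 : UFrame d F q :=
    { e := σ ∘ Fr.e
      f := σ ∘ Fr.f
      b := fun i => σ ∘ Fr.b i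
      ee := by rw [herm_comp, Fr.ee, map_zero]
      ff := by rw [herm_comp, Fr.ff, map_zero]
      ef := by rw [herm_comp, Fr.ef, map_one]
      be := fun i => by rw [herm_comp, Fr.be, map_zero]
      bf := fun i => by rw [herm_comp, Fr.bf, map_zero]
      bb := fun i j => by rw [herm_comp, Fr.bb]; split_ifs <;> simp }
  let F2 : UFrame d F q :=
    { e := (s ^ q)⁻¹ • Fr.e
      f := s • Fr.f
      b := fun i => s • Fr.emb (A (Pi.single i 1))
      ee := by rw [H.smul_left, H.smul_right, Fr.ee, mul_zero, mul_zero]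
      ff := by rw [H.smul_left, H.smul_right, Fr.ff, mul_zero, mul_zero]
      ef := by rw [H.smul_left, H.smul_right, Fr.ef, mul_one, inv_mul_cancel₀ hsq]
      be := fun i => by rw [H.smul_left, H.smul_right, Fr.emb_e hF, mul_zero, mul_zero]
      bf := fun i => by rw [H.smul_left, H.smul_right, Fr.emb_f hF, mul_zero, mul_zero]
      bb := fun i j => by
        rw [H.smul_left, H.smul_right, Fr.emb_herm hF, hk, (single_orthonormal hF d).apply,
          ← mul_assoc, ← pow_succ', hsk, ← mul_assoc, inv_mul_cancel₀ hk0, one_mul]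
        split_ifs <;> simp }
  obtain ⟨M, hM⟩ := F1.exists_gu_uframe hF F2
  have hTe : twistVec M.1 σ Fr.e = (s ^ q)⁻¹ • Fr.e := by
    have := hM (Fin.castAdd d 0); rwa [F1.fam_e hF, F2.fam_e hF] at this
  have hTf : twistVec M.1 σ Fr.f = s • Fr.f := by
    have := hM (Fin.castAdd d 1); rwa [F1.fam_f hF, F2.fam_f hF] at this
  have hTb : ∀ w, twistVec M.1 σ (Fr.emb w) = s • Fr.emb (A w) := by
    intro w
    have hb : ∀ i, twistVec M.1 σ (Fr.b i) = s • Fr.emb (A (Pi.single i 1)) := fun i => by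
      have := hM (Fin.natAdd 2 i); rwa [F1.fam_b, F2.fam_b] at this
    have hsum : Fr.emb (A w) = ∑ i, σ (w i) • Fr.emb (A (Pi.single i 1)) := by
      let L : (Fin d → F) →ₗ[F] (Fin (2 + d) → F) :=
        { toFun := Fr.emb, map_add' := fun x y => Fr.emb_add x y,
          map_smul' := fun c x => Fr.emb_smul c x }
      show L (A w) = ∑ i, σ (w i) • L (A (Pi.single i 1))
      conv_lhs => rw [pi_eq_sum_univ' w, map_sum, map_sum]
      exact Finset.sum_congr rfl fun i _ => by rw [hσ, map_smul]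
    rw [hsum, Finset.smul_sum, UFrame.emb, twistVec_sum]
    exact Finset.sum_congr rfl fun i _ => by rw [twistVec_smul, hb, smul_comm]
  set φ := twistAut M.2 σ with hφ
  have hφe : piMap hF (by omega) φ (Fr.pe hF) = Fr.pe hF := by
    rw [UFrame.pe, hφ, piMap_twistAut, IsoLine.mk_eq_iff]
    exact ⟨_, hTe.symm⟩
  have hφf : piMap hF (by omega) φ (Fr.pf hF) = Fr.pf hF := by
    rw [UFrame.pf, hφ, piMap_twistAut, IsoLine.mk_eq_iff]
    exact ⟨_, hTf.symm⟩
  -- the model automorphism has the same coordinates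
  have hφA : ∀ g ∈ qGroup (q := q) Fr.e, ∃ g' ∈ qGroup (q := q) Fr.e,
      cl (2 + d) F q g' = φ (cl (2 + d) F q g) ∧ Fr.wc g' = A (Fr.wc g) := by
    intro g hg
    obtain ⟨g', he, hact⟩ := twist_cl M.2 σ g
    have hge : suAct g' Fr.e = Fr.e := by
      have h1 := hact Fr.e
      rw [hg.1, hTe, suAct_smul] at h1
      exact smul_right_injective _ (inv_ne_zero hsq) h1
    refine ⟨g', ⟨hge, fun x hx => ?_⟩, he, ?_⟩
    · obtain ⟨y, rfl⟩ := twistVec_surjective M.1 σ x
      have h2 := twistVec_herm M.2 σ y Fr.e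
      rw [hTe, H.smul_right, hx, mul_zero] at h2
      obtain ⟨c, hc⟩ := hg.2 y (σ.injective (h2.symm.trans (map_zero σ).symm))
      exact ⟨σ c * (s ^ q)⁻¹, by
        rw [hact, hc, twistVec_add, twistVec_smul, hTe, smul_smul]⟩
    · have h1 := hact Fr.f
      rw [Fr.act_f hF hg, hTf, suAct_smul, twistVec_add, twistVec_add, twistVec_smul, hTe, hTf, hTb,
        smul_smul] at h1
      have h2 := congrArg (fun z => s⁻¹ • z) h1
      simp only [inv_smul_smul₀ hs0, smul_add, smul_smul] at h2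
      show Fr.wco (suAct g' Fr.f) = _
      rw [h2, ← one_smul F Fr.f]
      exact (Fr.comb_apply hF _ _ _).2.2
  -- the quotient has trivial coordinates
  set δ := φ⁻¹ * α1 with hδ
  have hinv : ∀ p, piMap hF (by omega) φ p = p → piMap hF (by omega) φ⁻¹ p = p := fun p hp => by
    conv_lhs => rw [← hp]
    rw [← piMap_mul, inv_mul_cancel, piMap_one]
  have hδe : piMap hF (by omega) δ (Fr.pe hF) = Fr.pe hF := by
    rw [hδ, piMap_mul, he1, hinv _ hφe]
  have hδf : piMap hF (by omega) δ (Fr.pf hF) = Fr.pf hF := by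
    rw [hδ, piMap_mul, hf1, hinv _ hφf]
  have hδ1 : δ = 1 := Fr.eq_one_of_coord hF hd δ hδe hδf hs' fun g hg g' hg' he => by
    obtain ⟨k1, hk1, e1, w1⟩ := hφA g' hg'
    obtain ⟨k2, hk2, e2⟩ := Fr.exists_lift hF hd α1 he1 hg
    have : k1 = k2 := Fr.cl_inj hF hk1 hk2 (by
      rw [e1, he, e2, hδ, MulAut.mul_apply]
      exact φ.apply_symm_apply _)
    subst this
    rw [hA g hg k1 hk1 e2] at w1
    exact (A.injective w1).symm
  have hα : α = (MulAut.conj (cl (2 + d) F q g))⁻¹ * φ := by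
    have : α1 = φ := by
      have := congrArg (φ * ·) hδ1
      simpa [hδ] using this
    rw [← this, hα1, inv_mul_cancel_left]
  refine ⟨(suMat (2 + d) F q g)⁻¹ * M.1, mul_mem (inv_mem (suMat_mem g)) M.2, σ, ?_⟩
  rw [hα, conj_cl, hφ, twistAut, twistAut, ← map_inv, ← map_mul]
  congr 1
  apply Subtype.ext
  show (MulAut.conj (suMat (2 + d) F q g))⁻¹ * (MulAut.conj M.1 * galGL σ) = _
  rw [← mul_assoc, ← map_inv, ← map_mul]

theorem gammaPSU_eq_top (hF : Fintype.card F = q ^ 2) (hn : 3 ≤ n) (hs : ¬(n = 3 ∧ q = 2)) :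
    Cfsg.gammaPSU n F q = ⊤ := by
  refine top_unique fun α _ => Subgroup.subset_closure ?_
  obtain ⟨X, hX, σ, rfl⟩ := exists_factor hF hn hs α
  exact ⟨X, σ, hX, (FieldAut.isInd_semilinear_psu X σ _).2
    ((isInd_iff suMat_injective (mul_mem (conj_mem_suMat hX) (keep_gal_su σ))).2 rfl)⟩

end Cfsg.Agent.AutPSU
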