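import Cfsg.Agent.Lib.AutPSU.Sylow

/-!
# The permutation of the isotropic points induced by an automorphism of `PSU_n(q)`

* `cl_eq_iff_transv`, `commute_iff_orth`
* `rootQ`, `rootQ_injective`, `piMap`, `rootQ_piMap`, `piMap_smul`, `piMap_orth`
* `eq_one_of_piMap` : an automorphism fixing every isotropic point is trivial
-/

set_option autoImplicit false

namespace Cfsg.Agent.AutPSU

open scoped Matrix
open Cfsg.Agent.Unitary

variable {F : Type*} [Field F] [Fintype F] {q n : ℕ} (hF : Fintype.card F = q ^ 2)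

local notation "hm" => Cfsg.hermForm n F q
local notation "Vec" => (Fin n → F)

theorem suTransvection_congr {v w : Vec} {c d : F} (hv : hm v v = 0) (hw : hm w w = 0)
    (hc : c + c ^ q = 0) (hd : d + d ^ q = 0)
    (h : Cfsg.unitaryTransvection n q v c = Cfsg.unitaryTransvection n q w d) :
    suTransvection hF v hv c hc = suTransvection hF w hw d hd :=
  Subtype.ext (Subtype.ext h)

include hF in
theorem skew_mul_norm {c : F} (hc : c + c ^ q = 0) (a : F) :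
    c * a ^ (q + 1) + (c * a ^ (q + 1)) ^ q = 0 := by
  rw [mul_pow, pow_q_succ_fixed hF, ← add_mul, hc, zero_mul]

theorem exists_parallel_of_eq {v w : Vec} {c d : F} (hv : v ≠ 0) (hv0 : hm v v = 0)
    (hw0 : hm w w = 0) (hc : c + c ^ q = 0) (hd : d + d ^ q = 0) (hc0 : c ≠ 0)
    (h : suTransvection hF v hv0 c hc = suTransvection hF w hw0 d hd) : ∃ a : F, v = a • w := by
  obtain ⟨s, hs, hvs⟩ := exists_iso_partner hF hv hv0
  have hsv : hm s v = 1 := by rw [(hermForm_isHerm hF n).conj_symm v s, hvs, one_pow]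
  have h1 := congrArg (fun g => suAct g s) h
  simp only [suAct_suTransvection, hsv, mul_one] at h1
  refine ⟨c⁻¹ * (d * hm s w), ?_⟩
  rw [mul_smul, ← add_left_cancel h1, inv_smul_smul₀ hc0]

theorem commute_cl_of_orth {v w : Vec} (hv0 : hm v v = 0) (hw0 : hm w w = 0) {c d : F}
    (hc : c + c ^ q = 0) (hd : d + d ^ q = 0) (h : hm v w = 0) :
    Commute (cl n F q (suTransvection hF v hv0 c hc)) (cl n F q (suTransvection hF w hw0 d hd)) := by
  show cl n F q _ * cl n F q _ = cl n F q _ * cl n F q _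
  rw [← map_mul, ← map_mul]
  congr 1
  refine suAct_ext fun x => ?_
  have H := hermForm_isHerm hF n
  simp only [suAct_mul, suAct_suTransvection, H.add_left, H.smul_left, h,
    (H.eq_zero_symm hF).1 h, mul_zero, add_zero]
  module

theorem orth_of_commute_cl (hn : 3 ≤ n) {v w : Vec} (hv : v ≠ 0) (hv0 : hm v v = 0)
    (hw : w ≠ 0) (hw0 : hm w w = 0) {c d : F} (hc : c + c ^ q = 0) (hd : d + d ^ q = 0)
    (hc0 : c ≠ 0) (hd0 : d ≠ 0)
    (h : Commute (cl n F q (suTransvection hF v hv0 c hc)) (cl n F q (suTransvection hF w hw0 d hd))) :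
    hm v w = 0 := by
  have H := hermForm_isHerm hF n
  set T := suTransvection hF v hv0 c hc with hT
  have h1 := commute_of_cl hF hn hw0 hd h
  have hconj : T * suTransvection hF w hw0 d hd * T⁻¹ = suTransvection hF w hw0 d hd := by
    rw [h1, mul_inv_cancel_right]
  rw [suTransvection_conj] at hconj
  obtain ⟨a, ha⟩ := exists_parallel_of_eq hF (suAct_ne_zero T hw) _ hw0 hd hd hd0 hconj
  rw [hT, suAct_suTransvection] at ha
  by_contra hvw
  have hwv : hm w v ≠ 0 := fun h0 => hvw ((H.eq_zero_symm hF).1 h0)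
  have h2 := congrArg (fun x => hm x w) ha
  simp only [H.add_left, H.smul_left, hw0, zero_add, mul_zero] at h2
  exact mul_ne_zero (mul_ne_zero hc0 hwv) hvw h2

/-- The root group of an isotropic point, as classes. -/
def rootQ (hF : Fintype.card F = q ^ 2) (p : IsoLine n F q) : Subgroup (Cfsg.PSU n F q) :=
  (rootGroup hF p).map (cl n F q)

theorem mem_rootQ_mk {v : Vec} (hv : v ≠ 0) (hv0 : hm v v = 0) {x : Cfsg.PSU n F q} :
    x ∈ rootQ hF (IsoLine.mk v hv hv0) ↔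
      ∃ (c : F) (hc : c + c ^ q = 0), x = cl n F q (suTransvection hF v hv0 c hc) := by
  constructor
  · rintro ⟨A, ⟨w, hw, c, hc, hw0, hA⟩, rfl⟩
    obtain ⟨b, rfl⟩ := Submodule.mem_span_singleton.1 hw
    exact ⟨c * b ^ (q + 1), skew_mul_norm hF hc b,
      congrArg _ (Subtype.ext (Subtype.ext (hA.trans (transvection_smul b c v))))⟩
  · rintro ⟨c, hc, rfl⟩
    exact ⟨_, ⟨v, Submodule.mem_span_singleton_self v, c, hc, hv0, rfl⟩, rfl⟩

theorem mem_rootQ_self {v : Vec} (hv : v ≠ 0) (hv0 : hm v v = 0) {c : F} (hc : c + c ^ q = 0) :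
    cl n F q (suTransvection hF v hv0 c hc) ∈ rootQ hF (IsoLine.mk v hv hv0) :=
  (mem_rootQ_mk hF hv hv0).2 ⟨c, hc, rfl⟩

theorem rootQ_ne_bot (hn : 3 ≤ n) (p : IsoLine n F q) : ∃ x ∈ rootQ hF p, x ≠ 1 := by
  obtain ⟨v, hv, hv0, rfl⟩ := p.exists_mk
  obtain ⟨δ, hδ0, hδ⟩ := exists_skew hF
  have hc : δ + δ ^ q = 0 := by rw [hδ, add_neg_cancel]
  exact ⟨_, mem_rootQ_self hF hv hv0 hc, cl_suTransvection_ne_one hF (by omega) hv hv0 hc hδ0⟩

theorem ne_zero_of_cl_ne_one {v : Vec} {hv0 : hm v v = 0} {c : F} {hc : c + c ^ q = 0}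
    (h : cl n F q (suTransvection hF v hv0 c hc) ≠ 1) : c ≠ 0 := by
  rintro rfl
  apply h
  rw [show suTransvection hF v hv0 0 hc = 1 from suAct_ext fun z => by
    rw [suAct_suTransvection, zero_mul, zero_smul, add_zero, suAct_one], map_one]

include hF in
/-- A point isotropic and orthogonal to `v` but not to `w`. -/
theorem exists_orth_not_orth {v w : Vec} (hv : v ≠ 0) (hv0 : hm v v = 0) (hw0 : hm w w = 0)
    (hne : ∀ a : F, a • v ≠ w) :
    ∃ z, z ≠ 0 ∧ hm z z = 0 ∧ hm v z = 0 ∧ hm w z ≠ 0 := by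
  have H := hermForm_isHerm hF n
  by_cases hvw : hm v w = 0
  · obtain ⟨z, hz, hwz, hvz⟩ := exists_iso_pairing hF hv hw0 hvw hne 0
    exact ⟨z, fun h => by simp [h, H.zero_right hF] at hwz, hz, hvz, by rw [hwz]; exact one_ne_zero⟩
  · exact ⟨v, hv, hv0, hv0, fun h => hvw ((H.eq_zero_symm hF).1 h)⟩

/-- Root elements with equal centralisers lie in the same root group. -/
theorem eq_of_commute_iff (hn : 3 ≤ n) {p p' : IsoLine n F q} {x y : Cfsg.PSU n F q}
    (hx : x ∈ rootQ hF p) (hx1 : x ≠ 1) (hy : y ∈ rootQ hF p') (hy1 : y ≠ 1)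
    (h : ∀ z, Commute z x → Commute z y) : p = p' := by
  obtain ⟨v, hv, hv0, rfl⟩ := p.exists_mk
  obtain ⟨w, hw, hw0, rfl⟩ := p'.exists_mk
  obtain ⟨c, hc, rfl⟩ := (mem_rootQ_mk hF hv hv0).1 hx
  obtain ⟨d, hd, rfl⟩ := (mem_rootQ_mk hF hw hw0).1 hy
  by_contra hne
  have hne' : ∀ a : F, a • v ≠ w := fun a ha => hne (IsoLine.mk_eq_iff.2 (by
    have ha0 : a ≠ 0 := fun h0 => hw (by rw [← ha, h0, zero_smul])
    exact ⟨a⁻¹, by rw [← ha, inv_smul_smul₀ ha0]⟩))
  obtain ⟨z, hz, hz0, hvz, hwz⟩ := exists_orth_not_orth hF hv hv0 hw0 hne'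
  have hzv : hm z v = 0 := ((hermForm_isHerm hF n).eq_zero_symm hF).1 hvz
  obtain ⟨δ, hδ0, hδ⟩ := exists_skew hF
  have hδ' : δ + δ ^ q = 0 := by rw [hδ, add_neg_cancel]
  exact hwz (orth_of_commute_cl hF hn hw hw0 hz hz0 hd hδ' (ne_zero_of_cl_ne_one hF hy1) hδ0
    (h _ (commute_cl_of_orth hF hz0 hv0 hδ' hc hzv)).symm)

theorem rootQ_injective (hn : 3 ≤ n) : Function.Injective (rootQ (n := n) hF) := by
  intro p p' h
  obtain ⟨x, hx, hx1⟩ := rootQ_ne_bot hF hn p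
  exact eq_of_commute_iff hF hn hx hx1 (h ▸ hx) hx1 fun z hz => hz

/-- In a root group all non-trivial elements have the same centraliser. -/
theorem commute_of_mem_rootQ (hn : 3 ≤ n) {p : IsoLine n F q} {x y z : Cfsg.PSU n F q}
    (hx : x ∈ rootQ hF p) (hx1 : x ≠ 1) (hy : y ∈ rootQ hF p) (h : Commute z x) : Commute z y := by
  obtain ⟨v, hv, hv0, rfl⟩ := p.exists_mk
  obtain ⟨c, hc, rfl⟩ := (mem_rootQ_mk hF hv hv0).1 hx
  obtain ⟨d, hd, rfl⟩ := (mem_rootQ_mk hF hv hv0).1 hy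
  obtain ⟨g, rfl⟩ := cl_surjective z
  have h1 := commute_of_cl hF hn hv0 hc h
  have hconj : g * suTransvection hF v hv0 c hc * g⁻¹ = suTransvection hF v hv0 c hc := by
    rw [h1, mul_inv_cancel_right]
  rw [suTransvection_conj] at hconj
  have hc0 := ne_zero_of_cl_ne_one hF hx1
  obtain ⟨a, ha⟩ := exists_parallel_of_eq hF (suAct_ne_zero g hv) _ hv0 hc hc hc0 hconj
  obtain ⟨s, hs, hvs⟩ := exists_iso_partner hF hv hv0
  have hsv : hm s v = 1 := by rw [(hermForm_isHerm hF n).conj_symm v s, hvs, one_pow]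
  have h2 := congrArg (fun t => suAct t s) hconj
  simp only [suAct_suTransvection, hsv, mul_one, ha, (hermForm_isHerm hF n).smul_right,
    add_right_inj, smul_smul] at h2
  have h3 : a ^ q * a = 1 := by
    have := smul_left_injective F hv h2
    apply mul_left_cancel₀ hc0
    rw [mul_one, ← mul_assoc]
    exact this
  have e : g * suTransvection hF v hv0 d hd * g⁻¹ = suTransvection hF v hv0 d hd := by
    rw [suTransvection_conj]
    refine suAct_ext fun x => ?_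
    rw [suAct_suTransvection, suAct_suTransvection, ha, (hermForm_isHerm hF n).smul_right,
      smul_smul]
    congr 2
    linear_combination (d * hm x v) * h3
  show cl n F q g * cl n F q _ = cl n F q _ * cl n F q g
  rw [← map_mul, ← map_mul]
  congr 1
  conv_rhs => rw [← e, inv_mul_cancel_right]

theorem isT_of_mem_rootQ {p : IsoLine n F q} {x : Cfsg.PSU n F q} (hx : x ∈ rootQ hF p)
    (hx1 : x ≠ 1) : IsT hF x := by
  obtain ⟨v, hv, hv0, rfl⟩ := p.exists_mk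
  obtain ⟨c, hc, rfl⟩ := (mem_rootQ_mk hF hv hv0).1 hx
  exact ⟨v, c, hv0, hc, hv, ne_zero_of_cl_ne_one hF hx1, rfl⟩

theorem map_rootQ_le (hn : 3 ≤ n) (α : MulAut (Cfsg.PSU n F q)) (p : IsoLine n F q) :
    ∃ p', (rootQ hF p).map α.toMonoidHom ≤ rootQ hF p' := by
  obtain ⟨x, hx, hx1⟩ := rootQ_ne_bot hF hn p
  have key : ∀ y ∈ rootQ hF p, y ≠ 1 → ∃ p', α y ∈ rootQ hF p' ∧ α y ≠ 1 := by
    intro y hy hy1
    have hy1' : α y ≠ 1 := fun h => hy1 (α.injective (h.trans (map_one α).symm))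
    obtain ⟨v, c, hv0, hc, hv, hc0, e⟩ := isT_map hF hn α (isT_of_mem_rootQ hF hy hy1)
    exact ⟨IsoLine.mk v hv hv0, e ▸ mem_rootQ_self hF hv hv0 hc, hy1'⟩
  obtain ⟨p', hp', hp1⟩ := key x hx hx1
  refine ⟨p', ?_⟩
  rintro _ ⟨y, hy, rfl⟩
  show α y ∈ _
  by_cases hy1 : y = 1
  · rw [hy1, map_one]; exact one_mem _
  obtain ⟨p'', hp'', hp1'⟩ := key y hy hy1
  have : p' = p'' := eq_of_commute_iff hF hn hp' hp1 hp'' hp1' fun z hz => by
    have h1 : Commute (α⁻¹ z) x := by simpa using hz.map α⁻¹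
    simpa using (commute_of_mem_rootQ hF hn hx hx1 hy h1).map α
  rw [this]; exact hp''

theorem exists_map_rootQ (hn : 3 ≤ n) (α : MulAut (Cfsg.PSU n F q)) (p : IsoLine n F q) :
    ∃ p', (rootQ hF p).map α.toMonoidHom = rootQ hF p' := by
  obtain ⟨p', hle⟩ := map_rootQ_le hF hn α p
  obtain ⟨p'', hle'⟩ := map_rootQ_le hF hn α⁻¹ p'
  obtain ⟨x, hx, hx1⟩ := rootQ_ne_bot hF hn p
  have hx' : x ∈ rootQ hF p'' := hle' ⟨α x, hle ⟨x, hx, rfl⟩, α.symm_apply_apply x⟩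
  have : p'' = p := eq_of_commute_iff hF hn hx' hx1 hx hx1 fun z hz => hz
  subst this
  exact ⟨p', le_antisymm hle fun y hy =>
    ⟨α⁻¹ y, hle' ⟨y, hy, rfl⟩, α.apply_symm_apply y⟩⟩

/-- The permutation of isotropic points. -/
noncomputable def piMap (hn : 3 ≤ n) (α : MulAut (Cfsg.PSU n F q)) (p : IsoLine n F q) :
    IsoLine n F q :=
  (exists_map_rootQ hF hn α p).choose

theorem rootQ_piMap (hn : 3 ≤ n) (α : MulAut (Cfsg.PSU n F q)) (p : IsoLine n F q) :
    rootQ hF (piMap hF hn α p) = (rootQ hF p).map α.toMonoidHom :=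
  (exists_map_rootQ hF hn α p).choose_spec.symm

theorem piMap_eq_of (hn : 3 ≤ n) {α : MulAut (Cfsg.PSU n F q)} {p p' : IsoLine n F q}
    {x : Cfsg.PSU n F q} (hx : x ∈ rootQ hF p) (hx1 : x ≠ 1) (hx' : α x ∈ rootQ hF p') :
    piMap hF hn α p = p' := by
  have h1 : α x ≠ 1 := fun h => hx1 (α.injective (h.trans (map_one α).symm))
  exact eq_of_commute_iff hF hn (by rw [rootQ_piMap]; exact ⟨x, hx, rfl⟩) h1 hx' h1 fun z hz => hz

theorem piMap_one (hn : 3 ≤ n) (p : IsoLine n F q) : piMap hF hn 1 p = p := by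
  obtain ⟨x, hx, hx1⟩ := rootQ_ne_bot hF hn p
  exact piMap_eq_of hF hn hx hx1 hx

theorem piMap_mul (hn : 3 ≤ n) (α β : MulAut (Cfsg.PSU n F q)) (p : IsoLine n F q) :
    piMap hF hn (α * β) p = piMap hF hn α (piMap hF hn β p) := by
  obtain ⟨x, hx, hx1⟩ := rootQ_ne_bot hF hn p
  refine piMap_eq_of hF hn hx hx1 ?_
  rw [rootQ_piMap, rootQ_piMap]
  exact ⟨β x, ⟨x, hx, rfl⟩, rfl⟩

theorem piMap_inj (hn : 3 ≤ n) (α : MulAut (Cfsg.PSU n F q)) : Function.Injective (piMap hF hn α) :=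
  fun p p' h => by rw [← piMap_one hF hn p, ← piMap_one hF hn p', ← inv_mul_cancel α,
    piMap_mul, piMap_mul, h]

theorem rootQ_smul (g : Cfsg.SU n F q) (p : IsoLine n F q) {x : Cfsg.PSU n F q}
    (hx : x ∈ rootQ hF p) : cl n F q g * x * (cl n F q g)⁻¹ ∈ rootQ hF (g • p) := by
  obtain ⟨A, hA, rfl⟩ := hx
  rw [← map_inv, ← map_mul, ← map_mul]
  exact ⟨_, rootGroup_conj hF g p hA, rfl⟩

theorem piMap_smul (hn : 3 ≤ n) (α : MulAut (Cfsg.PSU n F q)) {g h : Cfsg.SU n F q}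
    (hgh : cl n F q h = α (cl n F q g)) (p : IsoLine n F q) :
    piMap hF hn α (g • p) = h • piMap hF hn α p := by
  obtain ⟨x, hx, hx1⟩ := rootQ_ne_bot hF hn p
  refine piMap_eq_of hF hn (rootQ_smul hF g p hx) (fun h1 => hx1 ?_) ?_
  · have := congrArg (fun y => (cl n F q g)⁻¹ * y * cl n F q g) h1
    simpa [mul_assoc] using this
  · rw [map_mul, map_mul, map_inv, ← hgh]
    exact rootQ_smul hF h _ (by rw [rootQ_piMap]; exact ⟨x, hx, rfl⟩)

/-- Orthogonality of points. -/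
def Orth (p p' : IsoLine n F q) : Prop :=
  ∀ v ∈ p.1, ∀ w ∈ p'.1, hm v w = 0

include hF in
theorem orth_mk {v w : Vec} {hv : v ≠ 0} {hv0 : hm v v = 0} {hw : w ≠ 0} {hw0 : hm w w = 0} :
    Orth (IsoLine.mk v hv hv0) (IsoLine.mk w hw hw0) ↔ hm v w = 0 := by
  refine ⟨fun h => h v (Submodule.mem_span_singleton_self v) w (Submodule.mem_span_singleton_self w),
    fun h => ?_⟩
  intro x hx y hy
  obtain ⟨a, rfl⟩ := Submodule.mem_span_singleton.1 hx
  obtain ⟨b, rfl⟩ := Submodule.mem_span_singleton.1 hy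
  rw [(hermForm_isHerm hF n).smul_left, (hermForm_isHerm hF n).smul_right, h, mul_zero, mul_zero]

theorem orth_iff_commute (hn : 3 ≤ n) (p p' : IsoLine n F q) :
    Orth p p' ↔ ∀ x ∈ rootQ hF p, ∀ y ∈ rootQ hF p', Commute x y := by
  obtain ⟨v, hv, hv0, rfl⟩ := p.exists_mk
  obtain ⟨w, hw, hw0, rfl⟩ := p'.exists_mk
  rw [orth_mk hF]
  constructor
  · intro h x hx y hy
    obtain ⟨c, hc, rfl⟩ := (mem_rootQ_mk hF hv hv0).1 hx
    obtain ⟨d, hd, rfl⟩ := (mem_rootQ_mk hF hw hw0).1 hy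
    exact commute_cl_of_orth hF hv0 hw0 hc hd h
  · intro h
    obtain ⟨δ, hδ0, hδ⟩ := exists_skew hF
    have hδ' : δ + δ ^ q = 0 := by rw [hδ, add_neg_cancel]
    exact orth_of_commute_cl hF hn hv hv0 hw hw0 hδ' hδ' hδ0 hδ0
      (h _ (mem_rootQ_self hF hv hv0 hδ') _ (mem_rootQ_self hF hw hw0 hδ'))

theorem piMap_orth (hn : 3 ≤ n) (α : MulAut (Cfsg.PSU n F q)) (p p' : IsoLine n F q) :
    Orth (piMap hF hn α p) (piMap hF hn α p') ↔ Orth p p' := by
  rw [orth_iff_commute hF hn, orth_iff_commute hF hn, rootQ_piMap, rootQ_piMap]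
  constructor
  · intro h x hx y hy
    simpa using (h (α x) ⟨x, hx, rfl⟩ (α y) ⟨y, hy, rfl⟩).map α⁻¹
  · rintro h _ ⟨x, hx, rfl⟩ _ ⟨y, hy, rfl⟩
    exact (h x hx y hy).map α

/-- An automorphism fixing every isotropic point is trivial. -/
theorem eq_one_of_piMap (hn : 3 ≤ n) {α : MulAut (Cfsg.PSU n F q)}
    (h : ∀ p, piMap hF hn α p = p) : α = 1 := by
  refine MulEquiv.ext fun x => ?_
  obtain ⟨g, rfl⟩ := cl_surjective x
  obtain ⟨g', hg'⟩ := cl_surjective (α (cl n F q g))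
  have hsame : ∀ p : IsoLine n F q, (g⁻¹ * g') • p = p := fun p => by
    have := piMap_smul hF hn α hg' p
    rw [h, h] at this
    rw [mul_smul, ← this, inv_smul_smul]
  have hc : g⁻¹ * g' ∈ Subgroup.center _ := by
    rw [mem_center_SU_iff hF (by omega)]
    refine scalar_of_fixes_iso hF (by omega) _ fun v hv hv0 => ?_
    obtain ⟨c, hc⟩ := IsoLine.mk_eq_iff.1 ((IsoLine.smul_mk _ v hv hv0).symm.trans
      (hsame (IsoLine.mk v hv hv0)))
    exact ⟨c, hc.symm⟩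
  rw [MulAut.one_apply, ← hg']
  exact (QuotientGroup.eq.2 hc).symm

end Cfsg.Agent.AutPSU
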