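import Cfsg.Agent.Lib.Unitary.Simple

/-!
# Automorphisms of `PSU_n(q)` permute the isotropic points

* `tq`, `eichler`, `qGroup r` (the unipotent radical of the stabiliser of an isotropic vector)
* `lift_pgroup` : p-subgroups of a quotient by a central subgroup lift uniquely
* `isT_iff` : a class is a transvection class iff non-trivial and central in a Sylow p-subgroup
* `rootQ p`, `piMap α p`, `rootQ_piMap`, `piMap_smul`, `piMap_orth`, `piMap_injective`
-/

set_option autoImplicit false

namespace Cfsg.Agent.AutPSU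

open scoped Matrix
open Cfsg.Agent.Unitary

/-! ### Lifting p-subgroups -/

theorem lift_pgroup {G : Type*} [Group G] [Finite G] {p : ℕ} [Fact p.Prime] (Z : Subgroup G)
    [Z.Normal] (hZ : Z ≤ Subgroup.center G) (N : Subgroup (G ⧸ Z)) (hN : IsPGroup p N) :
    ∃ P : Subgroup G, IsPGroup p P ∧ P.map (QuotientGroup.mk' Z) = N ∧
      ∀ R : Subgroup G, IsPGroup p R → R ≤ N.comap (QuotientGroup.mk' Z) → R ≤ P := by
  set K := N.comap (QuotientGroup.mk' Z) with hK
  let f : K →* N := ((QuotientGroup.mk' Z).comp K.subtype).codRestrict N fun k => k.2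
  have hf : Function.Surjective f := by
    rintro ⟨x, hx⟩
    obtain ⟨g, rfl⟩ := QuotientGroup.mk'_surjective Z x
    exact ⟨⟨g, hx⟩, rfl⟩
  obtain ⟨P₀⟩ : Nonempty (Sylow p K) := inferInstance
  have htop : (P₀ : Subgroup K).map f = ⊤ := by
    rw [← Sylow.coe_mapSurjective hf P₀]
    exact ((P₀.mapSurjective hf).3 (hN.of_equiv Subgroup.topEquiv.symm) le_top).symm
  have hnormal : (P₀ : Subgroup K).Normal := by
    refine ⟨fun x hx g => ?_⟩
    obtain ⟨y, hy, hyg⟩ : f g ∈ (P₀ : Subgroup K).map f := htop ▸ Subgroup.mem_top _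
    have hz : (y : G)⁻¹ * g ∈ Z := QuotientGroup.eq.1 (congrArg Subtype.val hyg :)
    have hc := Subgroup.mem_center_iff.1 (hZ hz) (x : G)
    have e : g * x * g⁻¹ = y * x * y⁻¹ := by
      apply Subtype.ext
      show (g : G) * x * (g : G)⁻¹ = (y : G) * x * (y : G)⁻¹
      have hg : (g : G) = y * ((y : G)⁻¹ * g) := by group
      rw [hg, mul_assoc (y : G) ((y : G)⁻¹ * g) (x : G), ← hc]
      group
    rw [e]
    exact mul_mem (mul_mem hy hx) (inv_mem hy)
  refine ⟨(P₀ : Subgroup K).map K.subtype, P₀.2.map _, ?_, fun R hR hRK => ?_⟩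
  · rw [Subgroup.map_map, show (QuotientGroup.mk' Z).comp K.subtype = N.subtype.comp f from rfl,
      ← Subgroup.map_map, htop, ← MonoidHom.range_eq_map, Subgroup.range_subtype]
  · have hR' : IsPGroup p (R.subgroupOf K) := hR.of_equiv (Subgroup.subgroupOfEquivOfLe hRK).symm
    have hle : R.subgroupOf K ≤ (P₀ : Subgroup K) := by
      have := P₀.3 (hR'.to_sup_of_normal_right P₀.2) le_sup_right
      rw [← this]; exact le_sup_left
    intro x hx
    exact ⟨⟨x, hRK hx⟩, hle hx, rfl⟩

/-! ### Unitary Eichler maps -/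

variable {F : Type*} [Field F] {q n : ℕ}

local notation "hm" => Cfsg.hermForm n F q
local notation "Vec" => (Fin n → F)

/-- The Eichler matrix. -/
def eichMat (r y : Fin n → F) (a : F) : Matrix (Fin n) (Fin n) F :=
  1 + Matrix.vecMulVec y (fun j => r j ^ q) - Matrix.vecMulVec r (fun j => y j ^ q)
    + a • Matrix.vecMulVec r (fun j => r j ^ q)

theorem conj_dot (v x : Fin n → F) : (fun j => v j ^ q) ⬝ᵥ x = hm x v := by
  simp [dotProduct, Cfsg.hermForm, mul_comm]

theorem eichMat_mulVec (r y : Vec) (a : F) (x : Vec) :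
    eichMat (q := q) r y a *ᵥ x = x + hm x r • y - hm x y • r + (a * hm x r) • r := by
  rw [eichMat, Matrix.add_mulVec, Matrix.sub_mulVec, Matrix.add_mulVec, Matrix.one_mulVec,
    Matrix.smul_mulVec, Matrix.vecMulVec_mulVec, Matrix.vecMulVec_mulVec, Matrix.vecMulVec_mulVec,
    conj_dot, conj_dot, op_smul_eq_smul, op_smul_eq_smul, op_smul_eq_smul, smul_smul]

/-- The class map. -/
abbrev cl (n : ℕ) (F : Type*) [Field F] (q : ℕ) : Cfsg.SU n F q →* Cfsg.PSU n F q :=
  QuotientGroup.mk' _

theorem cl_surjective : Function.Surjective (cl n F q) := QuotientGroup.mk'_surjective _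

variable [Fintype F] (hF : Fintype.card F = q ^ 2)

section Eichler

variable {r y : Fin n → F} {a : F}

include hF in
theorem eichMat_isUnitary (hr : hm r r = 0) (hry : hm r y = 0) (ha : a + a ^ q + hm y y = 0) :
    IsUnitary q (eichMat (q := q) r y a) := by
  intro u v
  have H := hermForm_isHerm hF n
  have hyr : hm y r = 0 := (H.eq_zero_symm hF).1 hry
  rw [eichMat_mulVec, eichMat_mulVec]
  simp only [H.add_left, H.add_right hF, H.sub_left, H.sub_right hF, H.smul_left, H.smul_right, hr,
    hry, hyr, mul_pow]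
  rw [H.conj_symm v r, H.conj_symm v y]
  linear_combination (hm u r * hm v r ^ q) * ha

include hF in
theorem eichMat_det (hr : hm r r = 0) (hry : hm r y = 0) :
    (eichMat (q := q) r y a).det = 1 := by
  have H := hermForm_isHerm hF n
  have hyr : hm y r = 0 := (H.eq_zero_symm hF).1 hry
  set N := eichMat (q := q) r y a - 1 with hN
  have hNv : ∀ x, N *ᵥ x = hm x r • y - hm x y • r + (a * hm x r) • r := fun x => by
    rw [hN, Matrix.sub_mulVec, Matrix.one_mulVec, eichMat_mulVec]; abel
  have hN3 : N ^ 3 = 0 := by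
    refine Matrix.ext_iff_mulVec.2 fun x => ?_
    have h0 : N *ᵥ r = 0 := by rw [hNv, hr, hry]; simp
    have h1 : N *ᵥ y = -(hm y y) • r := by rw [hNv, hyr]; simp
    rw [pow_succ, pow_succ, pow_one, ← Matrix.mulVec_mulVec, ← Matrix.mulVec_mulVec, hNv x,
      Matrix.mulVec_add, Matrix.mulVec_sub, Matrix.mulVec_smul, Matrix.mulVec_smul,
      Matrix.mulVec_smul, h0, h1]
    simp [Matrix.mulVec_neg, Matrix.mulVec_smul, h0]
  obtain ⟨p, hchar⟩ := CharP.exists F
  have : Fact p.Prime := ⟨CharP.char_is_prime F p⟩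
  rcases isEmpty_or_nonempty (Fin n) with hemp | hne
  · exact Matrix.det_isEmpty
  have : CharP (Matrix (Fin n) (Fin n) F) p := inferInstance
  have hp3 : 3 ≤ p ^ 2 := by have := Nat.Prime.two_le (Fact.out : p.Prime); nlinarith
  have hpow : eichMat (q := q) r y a ^ p ^ 2 = 1 := by
    rw [show eichMat (q := q) r y a = 1 + N by rw [hN]; abel,
      add_pow_char_pow_of_commute p 2 (Commute.one_left N), one_pow,
      pow_eq_zero_of_le hp3 hN3, add_zero]
  have h2 := congrArg Matrix.det hpow
  rw [Matrix.det_pow, Matrix.det_one] at h2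
  exact iterateFrobenius_inj F p 2 (by
    show _ ^ p ^ 2 = (1 : F) ^ p ^ 2
    rw [h2, one_pow])

/-- The Eichler element of SU. -/
def eichler (hF : Fintype.card F = q ^ 2) (r y : Fin n → F) (a : F) (hr : hm r r = 0)
    (hry : hm r y = 0) (ha : a + a ^ q + hm y y = 0) : Cfsg.SU n F q :=
  suOfUnitary _ (eichMat_isUnitary hF hr hry ha) (eichMat_det hF hr hry)

theorem suAct_eichler (hr : hm r r = 0) (hry : hm r y = 0) (ha : a + a ^ q + hm y y = 0)
    (x : Vec) : suAct (eichler hF r y a hr hry ha) x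
      = x + hm x r • y - hm x y • r + (a * hm x r) • r :=
  eichMat_mulVec r y a x

include hF in
theorem exists_eich_coeff (y : Vec) : ∃ a : F, a + a ^ q + hm y y = 0 := by
  obtain ⟨a, ha⟩ := exists_trace_eq hF (c := -hm y y)
    (by rw [neg_pow_q hF, (hermForm_isHerm hF n).self_fixed])
  exact ⟨a, by rw [ha, neg_add_cancel]⟩

end Eichler

/-! ### The unipotent radical of a point stabiliser -/

/-- Elements fixing `r` and acting trivially on `r⊥ / r`. -/
def qGroup (r : Fin n → F) : Subgroup (Cfsg.SU n F q) where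
  carrier := {g | suAct g r = r ∧ ∀ x, hm x r = 0 → ∃ c : F, suAct g x = x + c • r}
  one_mem' := ⟨suAct_one r, fun x _ => ⟨0, by simp⟩⟩
  mul_mem' := by
    rintro g h ⟨hg, hg'⟩ ⟨hh, hh'⟩
    refine ⟨by rw [suAct_mul, hh, hg], fun x hx => ?_⟩
    obtain ⟨c, hc⟩ := hh' x hx
    obtain ⟨d, hd⟩ := hg' x hx
    exact ⟨d + c, by rw [suAct_mul, hc, suAct_add, suAct_smul, hg, hd, add_smul, add_assoc]⟩
  inv_mem' := by
    rintro g ⟨hg, hg'⟩
    have hi : suAct g⁻¹ r = r := by rw [← congrArg (suAct g⁻¹) hg, suAct_inv_suAct]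
    refine ⟨hi, fun x hx => ?_⟩
    obtain ⟨c, hc⟩ := hg' x hx
    have := congrArg (suAct g⁻¹) hc
    rw [suAct_inv_suAct, suAct_add, suAct_smul, hi] at this
    exact ⟨-c, by rw [neg_smul, ← sub_eq_add_neg, eq_sub_iff_add_eq]; exact this.symm⟩

theorem mem_qGroup {r : Vec} {g : Cfsg.SU n F q} :
    g ∈ qGroup r ↔ suAct g r = r ∧ ∀ x, hm x r = 0 → ∃ c : F, suAct g x = x + c • r := Iff.rfl

include hF in
theorem eq_smul_of_orth_perp {r z : Vec} (hr : r ≠ 0) (hr0 : hm r r = 0)
    (hz : ∀ x, hm x r = 0 → hm z x = 0) : ∃ c : F, z = c • r := by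
  have H := hermForm_isHerm hF n
  obtain ⟨s, hs, hrs⟩ := exists_iso_partner hF hr hr0
  have hsr : hm s r = 1 := by rw [H.conj_symm r s, hrs, one_pow]
  refine ⟨hm z s, sub_eq_zero.1 (hermForm_nondeg hF n _ fun x => ?_)⟩
  have h1 := hz (x - hm x r • s) (by rw [H.sub_left, H.smul_left, hsr, mul_one, sub_self])
  rw [H.sub_right hF, H.smul_right] at h1
  rw [H.sub_left, H.smul_left, H.conj_symm x r]
  linear_combination h1

include hF in
theorem eq_suTransvection_of_fix {r : Vec} (hr : r ≠ 0) (hr0 : hm r r = 0) {g : Cfsg.SU n F q}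
    (hfix : ∀ x, hm x r = 0 → suAct g x = x) :
    ∃ (c : F) (hc : c + c ^ q = 0), g = suTransvection hF r hr0 c hc := by
  have H := hermForm_isHerm hF n
  obtain ⟨s, hs, hrs⟩ := exists_iso_partner hF hr hr0
  have hsr : hm s r = 1 := by rw [H.conj_symm r s, hrs, one_pow]
  obtain ⟨c, hc⟩ := eq_smul_of_orth_perp hF hr hr0 (z := suAct g s - s) (fun x hx => by
    rw [H.sub_left, sub_eq_zero]
    conv_lhs => rw [← hfix x hx]
    exact suAct_herm g s x)
  have hgs : suAct g s = s + c • r := by rw [← hc, add_sub_cancel]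
  have hform : ∀ x, suAct g x = x + (c * hm x r) • r := fun x => by
    have h1 := hfix (x - hm x r • s) (by rw [H.sub_left, H.smul_left, hsr, mul_one, sub_self])
    rw [suAct_sub, suAct_smul, hgs, smul_add, smul_smul, sub_eq_iff_eq_add] at h1
    rw [h1, mul_comm c]; abel
  have hM : ((g : Matrix.SpecialLinearGroup (Fin n) F) : Matrix (Fin n) (Fin n) F)
      = Cfsg.unitaryTransvection n q r c :=
    Matrix.ext_iff_mulVec.2 fun x => (hform x).trans (transvection_mulVec r x c).symm
  exact ⟨c, (transvection_isometry_iff hF r hr hr0 c).1 (hM ▸ (g.2 : IsUnitary q _)),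
    suAct_ext fun x => (hform x).trans (suAct_suTransvection hF r x hr0 c _).symm⟩

variable {p : ℕ} [Fact p.Prime] [CharP F p]

theorem suTransvection_pow {r : Vec} (hr0 : hm r r = 0) (c : F) (hc : c + c ^ q = 0) (k : ℕ) (x : Vec) :
    suAct (suTransvection hF r hr0 c hc ^ k) x = x + (k : F) • ((c * hm x r) • r) := by
  induction k with
  | zero => simp
  | succ k ih =>
    rw [pow_succ', suAct_mul, ih, suAct_add, suAct_smul, suAct_smul,
      suAct_suTransvection, suAct_suTransvection, hr0]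
    push_cast
    simp only [mul_zero, zero_smul, add_zero, add_smul, one_smul]
    abel

theorem suTransvection_pow_p {r : Vec} (hr0 : hm r r = 0) (c : F) (hc : c + c ^ q = 0) :
    suTransvection hF r hr0 c hc ^ p = 1 :=
  suAct_ext fun x => by rw [suTransvection_pow hF hr0, CharP.cast_eq_zero, zero_smul, add_zero,
    suAct_one]

include hF in
theorem isPGroup_qGroup {r : Vec} (hr : r ≠ 0) (hr0 : hm r r = 0) :
    IsPGroup p (qGroup (q := q) r) := by
  intro g
  refine ⟨2, Subtype.ext ?_⟩
  obtain ⟨hgr, hg⟩ := g.2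
  have hk : ∀ (k : ℕ) (x : Vec), hm x r = 0 → ∃ c : F, suAct g.1 x = x + c • r ∧
      suAct (g.1 ^ k) x = x + ((k : F) * c) • r := by
    intro k x hx
    obtain ⟨c, hc⟩ := hg x hx
    refine ⟨c, hc, ?_⟩
    induction k with
    | zero => simp
    | succ k ih =>
      rw [pow_succ', suAct_mul, ih, suAct_add, suAct_smul, hgr, hc, Nat.cast_succ, add_mul,
        one_mul, add_smul]
      abel
  obtain ⟨c, hc, e⟩ := eq_suTransvection_of_fix hF hr hr0 (g := g.1 ^ p) (fun x hx => by
    obtain ⟨c, -, h⟩ := hk p x hx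
    rw [h, CharP.cast_eq_zero, zero_mul, zero_smul, add_zero])
  show g.1 ^ p ^ 2 = 1
  rw [pow_two, pow_mul, e, suTransvection_pow_p]

/-- Elements fixing `r` normalise its unipotent radical. -/
theorem le_normalizer_qGroup {r : Vec} {g : Cfsg.SU n F q} {l : F} (hl : l ≠ 0)
    (hg : suAct g r = l • r) : g ∈ Subgroup.normalizer (qGroup (q := q) r : Set (Cfsg.SU n F q)) := by
  have key : ∀ (g : Cfsg.SU n F q) (l : F), l ≠ 0 → suAct g r = l • r →
      ∀ h ∈ qGroup (q := q) r, g * h * g⁻¹ ∈ qGroup (q := q) r := by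
    intro g l hl hg h hh
    obtain ⟨hhr, hh'⟩ := hh
    have hi : suAct g⁻¹ r = l⁻¹ • r := by
      have := congrArg (suAct g⁻¹) hg
      rw [suAct_inv_suAct, suAct_smul] at this
      conv_rhs => rw [this]
      rw [inv_smul_smul₀ hl]
    refine ⟨by rw [suAct_mul, suAct_mul, hi, suAct_smul, hhr, suAct_smul, hg, inv_smul_smul₀ hl],
      fun x hx => ?_⟩
    have hx' : hm (suAct g⁻¹ x) r = 0 := by
      have := suAct_herm g⁻¹ x r
      rw [hi, hx, Cfsg.hermForm] at this
      simp only [Pi.smul_apply, smul_eq_mul, mul_pow] at this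
      rw [show ∑ i, suAct g⁻¹ x i * (l⁻¹ ^ q * r i ^ q) = l⁻¹ ^ q * hm (suAct g⁻¹ x) r by
        simp [Cfsg.hermForm, Finset.mul_sum, mul_left_comm]] at this
      exact (mul_eq_zero.1 this).resolve_left (pow_ne_zero _ (inv_ne_zero hl))
    obtain ⟨c, hc⟩ := hh' _ hx'
    exact ⟨c * l, by rw [suAct_mul, suAct_mul, hc, suAct_add, suAct_smul, hg, suAct_suAct_inv,
      smul_smul]⟩
  rw [Subgroup.mem_normalizer_iff]
  intro h
  refine ⟨key g l hl hg h, fun hh => ?_⟩
  have hi : suAct g⁻¹ r = l⁻¹ • r := by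
    have := congrArg (suAct g⁻¹) hg
    rw [suAct_inv_suAct, suAct_smul] at this
    conv_rhs => rw [this]
    rw [inv_smul_smul₀ hl]
  have := key g⁻¹ l⁻¹ (inv_ne_zero hl) hi _ hh
  simpa [mul_assoc] using this

include hF in
/-- An element fixing `r` and commuting with its unipotent radical is a transvection. -/
theorem eq_suTransvection_of_central {r : Vec} (hr : r ≠ 0) (hr0 : hm r r = 0) {g : Cfsg.SU n F q}
    (hg : suAct g r = r) (hc : ∀ h ∈ qGroup (q := q) r, g * h = h * g) :
    ∃ (c : F) (hc : c + c ^ q = 0), g = suTransvection hF r hr0 c hc := by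
  have H := hermForm_isHerm hF n
  obtain ⟨s, hs, hrs⟩ := exists_iso_partner hF hr hr0
  have hsr : hm s r = 1 := by rw [H.conj_symm r s, hrs, one_pow]
  have key : ∀ (y : Vec), hm r y = 0 → ∀ x,
      hm x r • suAct g y - hm x y • r
        = hm (suAct g x) r • y - hm (suAct g x) y • r := by
    intro y hy x
    obtain ⟨a, ha⟩ := exists_eich_coeff hF y
    have hmem : eichler hF r y a hr0 hy ha ∈ qGroup (q := q) r := by
      refine ⟨?_, fun z hz => ⟨-hm z y, ?_⟩⟩
      · rw [suAct_eichler, hr0, hy]; simp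
      · rw [suAct_eichler, hz]; simp [sub_eq_add_neg]
    have h1 := congrArg (fun t => suAct t x) (hc _ hmem)
    have hxr : hm (suAct g x) r = hm x r := by
      conv_lhs => rw [← hg]
      exact suAct_herm g x r
    simp only [suAct_mul, suAct_eichler, suAct_add, suAct_sub, suAct_smul, hg, hxr] at h1
    rw [hxr]
    linear_combination (norm := module) h1
  have hperp : ∀ x, hm x r = 0 → ∃ c : F, suAct g x = x + c • r := by
    intro x hx
    obtain ⟨c, hc'⟩ := eq_smul_of_orth_perp hF hr hr0 (z := suAct g x - x) (fun y hy => by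
      have h1 := key y ((H.eq_zero_symm hF).1 hy) x
      have hxr : hm (suAct g x) r = 0 := by
        conv_lhs => rw [← hg]
        rw [suAct_herm, hx]
      rw [hx, hxr, zero_smul, zero_smul, zero_sub, zero_sub, neg_inj] at h1
      rw [H.sub_left, sub_eq_zero]
      exact (smul_left_injective F hr h1).symm)
    exact ⟨c, by rw [← hc', add_sub_cancel]⟩
  refine eq_suTransvection_of_fix hF hr hr0 fun x hx => ?_
  obtain ⟨c, hcx⟩ := hperp x hx
  have lin : ∀ t : F, t * c = t ^ q * (hm s x - hm (suAct g s) x) := by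
    intro t
    have h2 := key (t • x) (by rw [H.smul_right, (H.eq_zero_symm hF).1 hx, mul_zero]) s
    have hsr' : hm (suAct g s) r = 1 := by
      conv_lhs => rw [← hg]
      rw [suAct_herm, hsr]
    rw [hsr, hsr', one_smul, one_smul, suAct_smul, hcx, H.smul_right, H.smul_right] at h2
    apply smul_left_injective F hr
    show (t * c) • r = (t ^ q * (hm s x - hm (suAct g s) x)) • r
    linear_combination (norm := module) h2
  have hc0 : c = 0 := by
    obtain ⟨t, ht⟩ : ∃ t : F, t ^ q ≠ t := by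
      by_contra! hall
      exact conjHom_ne_id hF (RingHom.ext hall)
    have h1 := lin 1
    rw [one_mul, one_pow, one_mul] at h1
    have h2 : (t ^ q - t) * c = 0 := by
      have := lin t
      rw [← h1] at this
      linear_combination -this
    exact (mul_eq_zero.1 h2).resolve_left (sub_ne_zero.2 ht)
  rw [hcx, hc0, zero_smul, add_zero]

/-! ### Fixed isotropic vectors of p-groups -/

include hF in
theorem exists_fixed_isotropic (hn : 3 ≤ n) {S : Subgroup (Cfsg.SU n F q)} (hS : IsPGroup p S) :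
    ∃ r : Vec, r ≠ 0 ∧ hm r r = 0 ∧ ∀ g ∈ S, suAct g r = r := by
  have H := hermForm_isHerm hF n
  obtain ⟨k, hp, hk⟩ := FiniteField.card F p
  have key : ∀ W : Submodule F Vec, W ≠ ⊥ → (∀ g ∈ S, ∀ x ∈ W, suAct g x ∈ W) →
      ∃ v ∈ W, v ≠ 0 ∧ ∀ g ∈ S, suAct g v = v := by
    intro W hW hinv
    have : Fintype W := Fintype.ofFinite _
    letI : MulAction S W :=
      { smul := fun g x => ⟨suAct g.1 x, hinv g.1 g.2 x x.2⟩
        one_smul := fun x => Subtype.ext (suAct_one _)
        mul_smul := fun g h x => Subtype.ext (suAct_mul _ _ _) }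
    have hdim : 0 < Module.finrank F W := Nat.pos_of_ne_zero fun h => hW (Submodule.finrank_eq_zero.1 h)
    have hdvd : p ∣ Nat.card W := by
      rw [Nat.card_eq_fintype_card, Module.card_eq_pow_finrank (K := F), hk, ← pow_mul]
      exact dvd_pow_self p (Nat.mul_ne_zero k.ne_zero (by omega))
    obtain ⟨b, hb, hb0⟩ := hS.exists_fixed_point_of_prime_dvd_card_of_fixed_point W hdvd
      (a := 0) (fun g => Subtype.ext (suAct_zero _))
    refine ⟨b.1, b.2, fun h => hb0 (Subtype.ext h).symm, fun g hg => ?_⟩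
    exact congrArg Subtype.val (hb ⟨g, hg⟩)
  have : Nontrivial Vec := by
    have : Nonempty (Fin n) := ⟨⟨0, by omega⟩⟩
    infer_instance
  obtain ⟨v, -, hv, hfix⟩ := key ⊤ top_ne_bot (fun _ _ _ _ => trivial)
  by_cases hvv : hm v v = 0
  · exact ⟨v, hv, hvv, hfix⟩
  let W : Submodule F Vec :=
    { carrier := {x | hm x v = 0}
      add_mem' := fun {x y} (hx : hm x v = 0) (hy : hm y v = 0) => by
        show hm (x + y) v = 0
        rw [H.add_left, hx, hy, add_zero]
      zero_mem' := H.zero_left v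
      smul_mem' := fun c x (hx : hm x v = 0) => by
        show hm (c • x) v = 0
        rw [H.smul_left, hx, mul_zero] }
  have hWne : W ≠ ⊥ := by
    intro hb
    let i : Fin n := ⟨0, by omega⟩
    let j : Fin n := ⟨1, by omega⟩
    have hi : ∀ x : Vec, x - (hm x v / hm v v) • v ∈ W := fun x => by
      show hm _ v = 0
      rw [H.sub_left, H.smul_left, div_mul_cancel₀ _ hvv, sub_self]
    rw [hb] at hi
    simp only [Submodule.mem_bot, sub_eq_zero] at hi
    have hij : i ≠ j := by simp [i, j, Fin.ext_iff]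
    have h1 := congrFun (hi (Pi.single i 1)) i
    have h2 := congrFun (hi (Pi.single j 1)) j
    have h3 := congrFun (hi (Pi.single i 1)) j
    rw [Pi.single_eq_same, Pi.smul_apply, smul_eq_mul] at h1 h2
    rw [Pi.single_eq_of_ne hij.symm, Pi.smul_apply, smul_eq_mul] at h3
    rcases mul_eq_zero.1 h3.symm with h0 | h0
    · rw [h0, zero_mul] at h1; exact one_ne_zero h1
    · rw [h0, mul_zero] at h2; exact one_ne_zero h2
  obtain ⟨u, hu : hm u v = 0, hu0, hufix⟩ := key W hWne (fun g hg x (hx : hm x v = 0) => by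
    show hm (suAct g x) v = 0
    conv_lhs => rw [← hfix g hg]
    rw [suAct_herm, hx])
  obtain ⟨t, ht⟩ := exists_norm_eq hF (c := -(hm u u / hm v v))
    (by rw [neg_pow_q hF, div_pow, H.self_fixed, H.self_fixed])
  refine ⟨u + t • v, fun h => ?_, ?_, fun g hg => by
    rw [suAct_add, suAct_smul, hufix g hg, hfix g hg]⟩
  · have h1 := congrArg (fun x => hm x v) h
    simp only [H.add_left, H.smul_left, hu, zero_add, H.zero_left, mul_eq_zero] at h1
    rcases h1 with h1 | h1
    · rw [h1, zero_smul, add_zero] at h; exact hu0 h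
    · exact hvv h1
  · have hvu : hm v u = 0 := (H.eq_zero_symm hF).1 hu
    simp only [H.add_left, H.add_right hF, H.smul_left, H.smul_right, hu, hvu]
    rw [pow_succ] at ht
    field_simp at ht
    linear_combination ht

/-! ### Transvection classes -/

/-- A transvection class. -/
def IsT (hF : Fintype.card F = q ^ 2) (x : Cfsg.PSU n F q) : Prop :=
  ∃ (r : Fin n → F) (c : F) (hr : hm r r = 0) (hc : c + c ^ q = 0), r ≠ 0 ∧ c ≠ 0 ∧
    x = cl n F q (suTransvection hF r hr c hc)

include hF in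
theorem center_fix_eq_one (hn : 2 ≤ n) {z : Cfsg.SU n F q} (hz : z ∈ Subgroup.center _)
    {r : Vec} (hr : r ≠ 0) (hfix : suAct z r = r) : z = 1 := by
  obtain ⟨c, hc⟩ := (mem_center_SU_iff hF hn z).1 hz
  have hz' : ∀ x, suAct z x = c • x := fun x => by
    rw [suAct, hc]; ext i; simp [Matrix.mulVec_diagonal]
  rw [hz'] at hfix
  have : c = 1 := smul_left_injective F hr (hfix.trans (one_smul F r).symm)
  exact suAct_ext fun x => by rw [hz', this, one_smul, suAct_one]

theorem suTransvection_fix_self {r : Vec} (hr0 : hm r r = 0) (c : F) (hc : c + c ^ q = 0) :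
    suAct (suTransvection hF r hr0 c hc) r = r := by
  rw [suAct_suTransvection, hr0, mul_zero, zero_smul, add_zero]

theorem suTransvection_conj (g : Cfsg.SU n F q) {r : Vec} (hr0 : hm r r = 0) (c : F)
    (hc : c + c ^ q = 0) :
    g * suTransvection hF r hr0 c hc * g⁻¹
      = suTransvection hF (suAct g r) ((suAct_herm g r r).trans hr0) c hc := by
  refine suAct_ext fun x => ?_
  rw [suAct_mul, suAct_mul, suAct_suTransvection, suAct_suTransvection, suAct_add, suAct_smul,
    suAct_suAct_inv]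
  congr 2
  rw [← suAct_herm g (suAct g⁻¹ x) r, suAct_suAct_inv]

theorem suTransvection_ne_one {r : Vec} (hr : r ≠ 0) (hr0 : hm r r = 0) {c : F} (hc : c + c ^ q = 0)
    (hc0 : c ≠ 0) : suTransvection hF r hr0 c hc ≠ 1 := by
  intro h
  obtain ⟨s, hs, hrs⟩ := exists_iso_partner hF hr hr0
  have hsr : hm s r = 1 := by rw [(hermForm_isHerm hF n).conj_symm r s, hrs, one_pow]
  have := congrArg (fun g => suAct g s) h
  simp only [suAct_suTransvection, hsr, mul_one, suAct_one, add_eq_left, smul_eq_zero] at this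
  exact this.elim hc0 hr

theorem cl_suTransvection_ne_one (hn : 2 ≤ n) {r : Vec} (hr : r ≠ 0) (hr0 : hm r r = 0) {c : F}
    (hc : c + c ^ q = 0) (hc0 : c ≠ 0) : cl n F q (suTransvection hF r hr0 c hc) ≠ 1 := fun h =>
  suTransvection_ne_one hF hr hr0 hc hc0 (center_fix_eq_one hF hn
    ((QuotientGroup.eq_one_iff _).1 h) hr (suTransvection_fix_self hF hr0 c hc))

/-- Commuting modulo the centre with a transvection is commuting. -/
theorem commute_of_cl (hn : 3 ≤ n) {r : Vec} (hr0 : hm r r = 0) {c : F}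
    (hc : c + c ^ q = 0) {g : Cfsg.SU n F q}
    (h : Commute (cl n F q g) (cl n F q (suTransvection hF r hr0 c hc))) :
    g * suTransvection hF r hr0 c hc = suTransvection hF r hr0 c hc * g := by
  have H := hermForm_isHerm hF n
  set T := suTransvection hF r hr0 c hc
  set T' := suTransvection hF (suAct g r) ((suAct_herm g r r).trans hr0) c hc
  have hz : T⁻¹ * T' ∈ Subgroup.center _ := by
    rw [← QuotientGroup.eq]
    show cl n F q T = cl n F q T'
    rw [show T' = g * T * g⁻¹ from (suTransvection_conj hF g hr0 c hc).symm, map_mul, map_mul,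
      map_inv, h.eq, mul_inv_cancel_right]
  let φ : Vec →ₗ[F] F × F :=
    { toFun := fun x => (hm x r, hm x (suAct g r))
      map_add' := fun x y => by simp [H.add_left]
      map_smul' := fun a x => by simp [H.smul_left] }
  obtain ⟨x, hx, hx0⟩ := (Submodule.ne_bot_iff (LinearMap.ker φ)).1 (by
    intro hb
    have h1 := LinearMap.finrank_range_add_finrank_ker φ
    have h2 := Submodule.finrank_le (LinearMap.range φ)
    rw [hb, finrank_bot, Module.finrank_fin_fun] at h1
    rw [Module.finrank_prod, Module.finrank_self] at h2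
    omega)
  simp only [LinearMap.mem_ker, φ, LinearMap.coe_mk, AddHom.coe_mk, Prod.mk_eq_zero] at hx
  have hTx : suAct T x = x := by rw [suAct_suTransvection, hx.1, mul_zero, zero_smul, add_zero]
  have hT'x : suAct T' x = x := by rw [suAct_suTransvection, hx.2, mul_zero, zero_smul, add_zero]
  have h1 := center_fix_eq_one hF (by omega) hz hx0 (by
    rw [suAct_mul, hT'x]
    conv_lhs => rw [← hTx]
    rw [suAct_inv_suAct])
  rw [inv_mul_eq_one, show T' = g * T * g⁻¹ from (suTransvection_conj hF g hr0 c hc).symm] at h1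
  calc g * T = g * T * g⁻¹ * g := by group
    _ = T * g := by rw [← h1]

theorem isPGroup_zpowers_suTransvection {r : Vec} (hr0 : hm r r = 0) (c : F) (hc : c + c ^ q = 0) :
    IsPGroup p (Subgroup.zpowers (suTransvection hF r hr0 c hc)) := by
  rintro ⟨_, j, rfl⟩
  refine ⟨1, Subtype.ext ?_⟩
  show (suTransvection hF r hr0 c hc ^ j) ^ p ^ 1 = 1
  rw [pow_one, ← zpow_natCast, ← zpow_mul, mul_comm, zpow_mul, zpow_natCast,
    suTransvection_pow_p hF hr0, one_zpow]

theorem isT_iff (hn : 3 ≤ n) (x : Cfsg.PSU n F q) :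
    IsT hF x ↔ x ≠ 1 ∧ ∃ P : Sylow p (Cfsg.PSU n F q),
      x ∈ (P : Subgroup (Cfsg.PSU n F q)) ∧ ∀ y ∈ (P : Subgroup (Cfsg.PSU n F q)), Commute y x := by
  constructor
  · rintro ⟨r, c, hr0, hc, hr, hc0, rfl⟩
    refine ⟨cl_suTransvection_ne_one hF (by omega) hr hr0 hc hc0, ?_⟩
    obtain ⟨S₀⟩ : Nonempty (Sylow p (Cfsg.SU n F q)) := inferInstance
    obtain ⟨r₀, hr₀, hr₀0, hfix₀⟩ := exists_fixed_isotropic hF hn S₀.2
    obtain ⟨g, hg⟩ := su_transitive_iso hF hn hr₀ hr₀0 hr hr0
    set S := g • S₀ with hS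
    have hfix : ∀ h ∈ (S : Subgroup (Cfsg.SU n F q)), suAct h r = r := by
      rintro _ ⟨h, hh, rfl⟩
      show suAct (g * h * g⁻¹) r = r
      have hgi : suAct g⁻¹ r = r₀ := by rw [← hg, suAct_inv_suAct]
      rw [suAct_mul, suAct_mul, hgi, hfix₀ h hh, hg]
    set T := suTransvection hF r hr0 c hc
    have hcomm : ∀ h ∈ (S : Subgroup (Cfsg.SU n F q)), h * T = T * h := fun h hh => by
      have e : h * T * h⁻¹ = T := by
        rw [suTransvection_conj hF h hr0 c hc]
        refine suAct_ext fun z => ?_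
        rw [suAct_suTransvection, suAct_suTransvection, hfix h hh]
      conv_rhs => rw [← e, inv_mul_cancel_right]
    have hT : T ∈ (S : Subgroup (Cfsg.SU n F q)) := by
      have hnorm : Subgroup.zpowers T ≤
          Subgroup.normalizer ((S : Subgroup (Cfsg.SU n F q)) : Set (Cfsg.SU n F q)) := by
        rw [Subgroup.zpowers_le, Subgroup.mem_normalizer_iff]
        intro h
        constructor
        · intro hh
          rwa [← hcomm h hh, mul_inv_cancel_right]
        · intro hh
          have h1 := hcomm _ hh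
          have e : T * h * T⁻¹ = h := by
            apply mul_left_cancel (a := T)
            rw [← h1]; group
          rwa [e] at hh
      have := S.3 ((isPGroup_zpowers_suTransvection (p := p) hF hr0 c hc).to_sup_of_normal_right'
        S.2 hnorm) le_sup_right
      rw [← this]
      exact Subgroup.mem_sup_left (Subgroup.mem_zpowers T)
    refine ⟨S.mapSurjective cl_surjective, ⟨T, hT, rfl⟩, ?_⟩
    rintro _ ⟨h, hh, rfl⟩
    show cl n F q h * cl n F q T = cl n F q T * cl n F q h
    rw [← map_mul, ← map_mul, hcomm h hh]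
  · rintro ⟨hx, P, hxP, hcomm⟩
    obtain ⟨S, hS, hmap, hmax⟩ := lift_pgroup (Subgroup.center (Cfsg.SU n F q)) le_rfl _ P.2
    have hSmax : ∀ R : Subgroup (Cfsg.SU n F q), IsPGroup p R → S ≤ R → R = S := by
      intro R hR hSR
      refine le_antisymm (hmax R hR (Subgroup.map_le_iff_le_comap.1 (le_of_eq ?_))) hSR
      refine P.3 (hR.map _) ?_
      rw [← hmap]
      exact Subgroup.map_mono hSR
    obtain ⟨r, hr, hr0, hfix⟩ := exists_fixed_isotropic hF hn hS
    have hQ : qGroup (q := q) r ≤ S := by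
      have hn' : S ≤ Subgroup.normalizer (qGroup (q := q) r : Set (Cfsg.SU n F q)) := fun g hg =>
        le_normalizer_qGroup one_ne_zero (by rw [one_smul]; exact hfix g hg)
      rw [← hSmax _ (hS.to_sup_of_normal_right' (isPGroup_qGroup hF hr hr0) hn') le_sup_left]
      exact le_sup_right
    obtain ⟨u, hu, rfl⟩ : x ∈ S.map (QuotientGroup.mk' _) := hmap.symm ▸ hxP
    have hcu : ∀ h ∈ S, u * h = h * u := by
      intro h hh
      have h1 := hcomm (cl n F q h) (hmap ▸ ⟨h, hh, rfl⟩)
      have h2 : (h * u)⁻¹ * (u * h) ∈ Subgroup.center _ :=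
        QuotientGroup.eq.1 (show cl n F q (h * u) = cl n F q (u * h) by
          rw [map_mul, map_mul]; exact h1.eq)
      have h3 := center_fix_eq_one hF (by omega) h2 hr (hfix _
        (mul_mem (inv_mem (mul_mem hh hu)) (mul_mem hu hh)))
      exact (inv_mul_eq_one.1 h3).symm
    obtain ⟨c, hc, rfl⟩ := eq_suTransvection_of_central hF hr hr0 (hfix u hu)
      (fun h hh => hcu h (hQ hh))
    refine ⟨r, c, hr0, hc, hr, fun h0 => hx ?_, rfl⟩
    rw [show suTransvection hF r hr0 c hc = 1 from suAct_ext fun z => by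
      rw [suAct_suTransvection, h0, zero_mul, zero_smul, add_zero, suAct_one], map_one]

omit [Fact p.Prime] [CharP F p] in
theorem isT_map (hn : 3 ≤ n) (α : MulAut (Cfsg.PSU n F q)) {x : Cfsg.PSU n F q} (hx : IsT hF x) :
    IsT hF (α x) := by
  obtain ⟨p, hchar⟩ := CharP.exists F
  have : Fact p.Prime := ⟨CharP.char_is_prime F p⟩
  obtain ⟨hx1, P, hxP, hc⟩ := (isT_iff (p := p) hF hn x).1 hx
  refine (isT_iff (p := p) hF hn _).2 ⟨fun h => hx1 (α.injective (h.trans (map_one α).symm)),
    P.mapSurjective (f := α.toMonoidHom) α.surjective, ⟨x, hxP, rfl⟩, ?_⟩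
  rintro _ ⟨y, hy, rfl⟩
  exact (hc y hy).map α

end Cfsg.Agent.AutPSU
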